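import Cfsg.Agent.Kasp.AutC
import Cfsg.Agent.Perm.SymSylow

/-!
# The automorphism group of a Sylow 2-subgroup of `PSL_n(q)`, `q` odd, `n ≥ 3`, is a 2-group
-/

set_option autoImplicit false

namespace Cfsg.Lib.Kasp

open Subgroup Equiv
open scoped commutatorElement

namespace Mod

variable {D C : Type*} [Group D] [CommGroup C] {B : Blk D C} {ι : Type*} [Fintype ι] {R : Prop}
  {X T : Type*} [Group X] [Group T] {M : Mod B ι R X T}

theorem Tk.uniq {k l : ι} {g : T} (h : M.Tk k g) (h' : M.Tk l g) : k = l := by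
  obtain ⟨x, rfl, -, h1⟩ := h
  obtain ⟨x', e, -, h2⟩ := h'
  exact (h2 k).1 (fun h => (h1 k).2 rfl ((M.mem_iff e k).1 h))

theorem Tk.div {k : ι} {g h : T} (hg : M.Tk k g) (hh : M.Tk k h) : g⁻¹ * h ∈ M.Ab := by
  obtain ⟨x, rfl, x1, x2⟩ := hg
  obtain ⟨y, rfl, y1, y2⟩ := hh
  rw [← map_inv, ← map_mul, M.mem_Ab]
  refine ⟨by simp [x1, y1], fun j => ?_⟩
  rw [M.c_mul' (by simp [x1]), M.c_inv' x1, B.mul_mem_iff, inv_mem_iff, ← not_iff_not, x2, y2]

theorem Tk.mul {k : ι} {g a : T} (hg : M.Tk k g) (ha : a ∈ M.Ab) : M.Tk k (g * a) := by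
  obtain ⟨x, rfl, x1, x2⟩ := hg
  obtain ⟨a, ha, rfl⟩ := ha
  refine ⟨x * a, map_mul _ _ _, by rw [map_mul, x1, ha.1, mul_one], fun j => ?_⟩
  rw [M.c_mul' x1, mul_mem_cancel_right (ha.2 j), x2]

theorem Tk.conj {k : ι} {g : T} (hg : M.Tk k g) (w : X) :
    M.Tk (M.π w k) (M.φ w * g * (M.φ w)⁻¹) := by
  obtain ⟨x, rfl, x1, x2⟩ := hg
  refine ⟨w * x * w⁻¹, by simp, by simp [x1], fun j => ?_⟩
  have : M.c (w * x * w⁻¹) j = M.c w j * M.c x ((M.π w)⁻¹ j) * (M.c w j)⁻¹ := by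
    rw [M.c_mul, M.c_mul, M.c_inv]; simp [x1]
  rw [this, ← Perm.inv_eq_iff_eq, ← x2, not_iff_not]
  refine ⟨fun h => ?_, fun h => B.conj_mem h _⟩
  simpa [mul_assoc] using B.conj_mem h (M.c w j)⁻¹

variable (M) in
theorem exT (k : ι) : ∃ x, M.π x = 1 ∧ M.c x k = B.t ∧ (∀ j, j ≠ k → M.c x j = 1) ∧
    M.Tk k (M.φ x) := by
  obtain ⟨x, h1, h2, h3⟩ := M.ex1 k B.t (fun _ => B.δ_t)
  refine ⟨x, h1, h2, h3, x, rfl, h1, fun j => ⟨fun h => ?_, fun h => ?_⟩⟩
  · by_contra hj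
    exact h (by rw [h3 j hj]; exact one_mem _)
  · rw [h, h2]; exact B.t_not

section Main

variable [Finite D] [Finite T] (hD : IsPGroup 2 D) (hT : IsPGroup 2 T)
  (big : (∃ i j : ι, i ≠ j) ∨ (R ∧ Nonempty ι)) {α : MulAut T} {m : ℕ} (hm : Odd m)
  (hα : α ^ m = 1)
include hD hT big hm hα

theorem Tk.map {k : ι} {g : T} (hg : M.Tk k g) : M.Tk k (α g) := by
  classical
  choose τ t1 t2 t3 t4 using M.exT
  choose ρ hρ using fun k => (((t4 k).refl hD big).map big α).tk hD hT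
  have key : ∀ k g, M.Tk k g → M.Tk (ρ k) (α g) := fun k g hg => by
    have := (hρ k).mul (M.map_mem_Ab big α ((t4 k).div hg))
    rwa [← map_mul, mul_inv_cancel_left] at this
  have inj : Function.Injective ρ := fun k l e => by
    have h1 := M.map_mem_Ab big α⁻¹ ((hρ k).div (e ▸ hρ l))
    rw [← map_inv, ← map_mul, MulAut.inv_apply_self] at h1
    have h2 := (t4 k).mul h1
    rw [mul_inv_cancel_left] at h2
    exact h2.uniq (t4 l)
  let σ : Perm ι := Equiv.ofBijective ρ (Finite.injective_iff_bijective.1 inj)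
  have hσ : ∀ k, σ k = ρ k := fun _ => rfl
  have hN : σ ∈ normalizer ((M.P : Subgroup (Perm ι)) : Set (Perm ι)) := by
    refine mem_normalizer_fintype fun p hp => ?_
    obtain ⟨w, w1, -⟩ := M.ex p hp 1 (fun _ => by simp)
    obtain ⟨w', w2⟩ := M.φ_surj (α (M.φ w))
    have : σ * p * σ⁻¹ = M.π w' := by
      rw [mul_inv_eq_iff_eq_mul]
      ext k
      have h1 := key _ _ ((t4 k).conj w)
      have h2 := (hρ k).conj w'
      rw [w2, ← map_inv, ← map_mul, ← map_mul] at h2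
      rw [Perm.mul_apply, Perm.mul_apply, hσ, hσ, ← w1]
      exact h1.uniq h2
    rw [this]; exact M.π_mem w'
  have hP := Perm.SymSyl.normalizer_le M.P hN
  have hpow : ∀ n : ℕ, ∀ k g, M.Tk k g → M.Tk ((σ ^ n) k) ((α ^ n) g) := by
    intro n
    induction n with
    | zero => intro k g h; exact h
    | succ n ih => intro k g h; rw [pow_succ', pow_succ']; exact key _ _ (ih k g h)
  have h1 : σ ^ m = 1 := by
    ext k
    have := hpow m k _ (t4 k)
    rw [hα] at this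
    exact this.uniq (t4 k)
  have h2 : σ = 1 := congrArg Subtype.val
    (eq_one_of_pow_odd M.P.isPGroup' (w := ⟨σ, hP⟩) hm (Subtype.ext h1))
  have h3 := key k g hg
  rwa [← hσ, h2] at h3

omit [Finite D] [Finite T] hD hT big hm hα in
theorem comm_mul {a g b : T} (ha : a ∈ M.Ab) (hb : b ∈ M.Ab) : ⁅a, g * b⁆ = ⁅a, g⁆ := by
  have := M.Ab_comm hb (inv_mem ha)
  rw [commutatorElement_def, commutatorElement_def, mul_assoc, mul_assoc, mul_assoc,
    ← mul_assoc b, this]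
  group

theorem map_comm {k : ι} {g a : T} (hg : M.Tk k g) (ha : a ∈ M.Ab) : α ⁅a, g⁆ = ⁅α a, g⁆ := by
  rw [map_commutatorElement, ← comm_mul (g := g) (M.map_mem_Ab big α ha)
    (hg.div (hg.map hD hT big hm hα)),
    mul_inv_cancel_left]

theorem fix_io {k : ι} {h : X} (h1 : M.π h = 1) (h2 : M.c h k = B.io)
    (h3 : ∀ j, j ≠ k → M.c h j = 1) : ∀ a ∈ zpowers (M.φ h), α a = a := by
  refine fix_of_cyc hT hm hα ?_
  obtain ⟨x, x1, x2, x3, x4⟩ := M.exT k
  obtain ⟨a, a1, a2, a3⟩ := M.exY big k B.y_mem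
  have ha := M.mem_Ab.2 ⟨a1, a2⟩
  have e : M.φ h = ⁅M.φ a, M.φ x⁆ := by
    rw [← map_commutatorElement]
    refine M.φ_ext h1 (M.π_comm a1 x) 1 (fun j => ?_) (fun _ => ?_)
    · rw [M.c_comm' a1 x1, map_one, mul_one]
      by_cases hj : j = k
      · rw [hj, h2, a3, x2]; rfl
      · rw [h3 j hj, x3 j hj]; group
    · rw [M.e_single (by rw [h2]; exact B.δ_io) h3, M.e_comm, mul_one]
  nth_rewrite 2 [e]
  rw [map_comm hD hT big hm hα x4 ha]
  exact M.comm_mem x4 h1 h2 h3 (M.map_mem_Ab big α ha)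

theorem fix_scal (μ : ι → C) (hμ : ∀ j, μ j * μ j = 1) (x : X) (x1 : M.π x = 1)
    (x2 : ∀ j, M.c x j = B.s (μ j)) : α (M.φ x) = M.φ x := by
  classical
  have he : ∀ (μ : ι → C) (x : X), (∀ j, μ j * μ j = 1) → (∀ j, M.c x j = B.s (μ j)) →
      M.e x = 1 := fun μ x hμ x2 => M.e_eq_one fun j => by rw [x2, B.δ_s, hμ]
  have key : ∀ J : Finset ι, ∀ μ : ι → C, (∀ j, μ j * μ j = 1) → (∀ j, j ∉ J → μ j = 1) →
      ∀ x : X, M.π x = 1 → (∀ j, M.c x j = B.s (μ j)) → α (M.φ x) = M.φ x := by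
    intro J
    induction J using Finset.induction_on with
    | empty =>
      intro μ hμ h0 x x1 x2
      rw [(M.ker x).2 ⟨x1, 1, fun j => by rw [x2, h0 j (by simp)], fun _ => he μ x hμ x2⟩, map_one]
    | insert k J _ ih =>
      intro μ hμ h0 x x1 x2
      obtain ⟨h, h1, h2, h3⟩ := M.ex1 k B.io (fun _ => B.δ_io)
      obtain ⟨n, hn⟩ := B.s_mem_zpowers hD (hμ k)
      dsimp only at hn
      have h4 := fix_io hD hT big hm hα h1 h2 h3 _ (zpow_mem (mem_zpowers _) n)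
      have h5 := ih (Function.update μ k 1) (fun j => by
          by_cases hj : j = k
          · simp [hj]
          · simp [hj, hμ]) (fun j hj => by
          by_cases hk : j = k
          · simp [hk]
          · simp [hk, h0 j (by simp [hk, hj])]) (x * (h ^ n)⁻¹) (by simp [x1, h1]) (fun j => by
          rw [M.c_mul' x1, M.c_inv' (by simp [h1]), M.c_zpow h1, x2]
          by_cases hk : j = k
          · simp [hk, h2, hn]
          · simp [hk, h3 j hk])
      rw [map_mul, map_inv, map_zpow, map_mul, map_inv, h4, mul_left_inj] at h5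
      exact h5
  exact key Finset.univ μ hμ (fun j hj => absurd (Finset.mem_univ j) hj) x x1 x2

theorem fix_Ab : ∀ a ∈ M.Ab, α a = a := by
  choose τ t1 t2 t3 t4 using M.exT
  let H : Subgroup T := M.Ab ⊓ centralizer (Set.range fun k => M.φ (τ k))
  have hH : ∀ a, a ∈ H ↔ a ∈ M.Ab ∧ ∀ k, ⁅a, M.φ (τ k)⁆ = 1 := fun a => by
    simp only [H, mem_inf, mem_centralizer_iff, Set.forall_mem_range,
      commutatorElement_eq_one_iff_mul_comm]
    exact and_congr_right fun _ => forall_congr' fun _ => eq_comm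
  have key : ∀ a ∈ H, α a = a := by
    refine fix_of_inv hT hm hα (fun a ha b hb => M.Ab_comm ha.1 hb.1) (fun a ha => ?_) ?_
    · rw [hH] at ha ⊢
      exact ⟨M.map_mem_Ab big α ha.1, fun k => by
        rw [← map_comm hD hT big hm hα (t4 k) ha.1, ha.2, map_one]⟩
    · intro a ha h2
      obtain ⟨⟨x, hx, rfl⟩, h3⟩ := (hH a).1 ha
      have h4 : ∀ k, ∃ μ, M.c x k = B.s μ := fun k => by
        have := M.one_of_single big (x := ⁅x, τ k⁆) (i := k)
          (fun j hj => by rw [M.c_comm' hx.1 (t1 k), t3 k j hj]; group) (M.e_comm _ _)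
          (by rw [map_commutatorElement, h3])
        rw [M.c_comm' hx.1 (t1 k), t2] at this
        exact B.eta_eq_one (hx.2 k) this
      choose μ hμ using h4
      rw [← map_mul, M.ker] at h2
      obtain ⟨-, l, h5, h6⟩ := h2
      have h7 : ∀ j, μ j * μ j = l := fun j => B.s_inj (by rw [← h5 j, M.c_mul' hx.1, hμ, map_mul])
      obtain ⟨ν, n1, n2⟩ : ∃ ν, ν * ν = l ∧ (R → M.e x = ν) := by
        by_cases r : R
        · exact ⟨M.e x, by rw [← map_mul, h6 r], fun _ => rfl⟩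
        · obtain ⟨i, -⟩ := big.resolve_right (fun h => r h.1)
          exact ⟨μ i, h7 i, fun h => absurd h r⟩
      have h8 : ∀ j, μ j * ν⁻¹ * (μ j * ν⁻¹) = 1 := fun j => by
        rw [mul_mul_mul_comm, h7, ← mul_inv, n1, mul_inv_cancel]
      obtain ⟨x', y1, y2⟩ := M.ex 1 (one_mem _) (fun j => B.s (μ j * ν⁻¹))
        (fun _ => by simp only [B.δ_s, h8, Finset.prod_const_one])
      have h9 : M.φ x = M.φ x' := M.φ_ext hx.1 y1 ν
        (fun j => by rw [y2, hμ, ← map_mul, inv_mul_cancel_right])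
        (fun r => by rw [n2 r, M.e_eq_one fun j => by rw [y2, B.δ_s, h8], one_mul])
      rw [h9]
      exact fix_scal hD hT big hm hα _ h8 x' y1 (fun j => by rw [y2])
  intro a ha
  have ha' := M.map_mem_Ab big α ha
  refine fix_of_fix hT hm hα (key _ ((hH _).2 ⟨mul_mem (inv_mem ha) ha', fun k => ?_⟩))
  obtain ⟨h, h1, h2, h3⟩ := M.ex1 k B.io (fun _ => B.δ_io)
  have h4 := fix_io hD hT big hm hα h1 h2 h3 _ (M.comm_mem (t4 k) h1 h2 h3 ha)
  rw [map_comm hD hT big hm hα (t4 k) ha, commutatorElement_def, commutatorElement_def,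
    mul_left_inj] at h4
  rw [commutatorElement_def]
  calc a⁻¹ * α a * M.φ (τ k) * (a⁻¹ * α a)⁻¹ * (M.φ (τ k))⁻¹
      = a⁻¹ * (α a * M.φ (τ k) * (α a)⁻¹) * a * (M.φ (τ k))⁻¹ := by group
    _ = 1 := by rw [h4]; group

theorem eq_one (M : Mod B ι R X T) : α = 1 := by
  ext g
  rw [MulAut.one_apply]
  refine fix_of_fix hT hm hα (fix_Ab (M := M) hD hT big hm hα _
    (M.mem_Ab_of_cent big fun a ha => ?_))
  have h1 := fix_Ab hD hT big hm hα _ (M.Ab_conj ha g)
  rw [map_mul, map_mul, map_inv, fix_Ab hD hT big hm hα _ ha] at h1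
  calc a * (g⁻¹ * α g) = g⁻¹ * (g * a * g⁻¹) * α g := by group
    _ = g⁻¹ * α g * a := by rw [← h1]; group

end Main

theorem isPGroup_aut [Finite D] [Finite T] (M : Mod B ι R X T) (hD : IsPGroup 2 D)
    (hT : IsPGroup 2 T) (big : (∃ i j : ι, i ≠ j) ∨ (R ∧ Nonempty ι)) : IsPGroup 2 (MulAut T) :=
  isPGroup_of_odd fun _ _ hm hα => eq_one hD hT big hm hα M

end Mod

end Cfsg.Lib.Kasp
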