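import Cfsg.Agent.Kasp.Defs

/-!
# Automorphisms of odd order; first properties of the block data
-/

set_option autoImplicit false

namespace Cfsg.Lib.Kasp

open Subgroup Equiv

section General

variable {T : Type*} [Group T]

theorem mem_zpowers_pow_odd (hT : IsPGroup 2 T) (w : T) {m : ℕ} (hm : Odd m) :
    w ∈ zpowers (w ^ m) := by
  obtain ⟨k, hk⟩ := hT w
  rw [mem_zpowers_pow_iff]
  exact Nat.Coprime.coprime_dvd_right (orderOf_dvd_of_pow_eq_one hk)
    (Nat.Coprime.pow_right _ (Nat.coprime_two_right.2 hm))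

theorem eq_one_of_pow_odd (hT : IsPGroup 2 T) {w : T} {m : ℕ} (hm : Odd m) (h : w ^ m = 1) :
    w = 1 := by
  have := mem_zpowers_pow_odd hT w hm
  rwa [h, zpowers_one_eq_bot, mem_bot] at this

/-- Two elements of a cyclic 2-group are comparable. -/
theorem zp_total [Finite T] (hT : IsPGroup 2 T) {w u v : T} (hu : u ∈ zpowers w)
    (hv : v ∈ zpowers w) : u ∈ zpowers v ∨ v ∈ zpowers u := by
  obtain ⟨a, rfl⟩ := (mem_powers_iff_mem_zpowers.2 hu : u ∈ Submonoid.powers w)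
  obtain ⟨b, rfl⟩ := (mem_powers_iff_mem_zpowers.2 hv : v ∈ Submonoid.powers w)
  rcases Nat.eq_zero_or_pos a with rfl | ha
  · left; simp
  rcases Nat.eq_zero_or_pos b with rfl | hb
  · right; simp
  obtain ⟨s, a', ha', rfl⟩ := Nat.exists_eq_two_pow_mul_odd ha.ne'
  obtain ⟨t, b', hb', rfl⟩ := Nat.exists_eq_two_pow_mul_odd hb.ne'
  have key : ∀ s t a' b' : ℕ, Odd a' → s ≤ t →
      w ^ (2 ^ t * b') ∈ zpowers (w ^ (2 ^ s * a')) := by
    intro s t a' b' ha' hst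
    obtain ⟨r, rfl⟩ := Nat.exists_eq_add_of_le hst
    have h1 := mem_zpowers_pow_odd hT (w ^ 2 ^ s) ha'
    rw [← pow_mul] at h1
    have h2 := pow_mem h1 (2 ^ r * b')
    rwa [← pow_mul, ← mul_assoc, ← pow_add] at h2
  rcases le_total s t with h | h
  · right; exact key s t a' b' ha' h
  · left; exact key t s b' a' hb' h

/-- An automorphism of odd order that moves `x` by a fixed element fixes `x`. -/
theorem fix_of_fix (hT : IsPGroup 2 T) {α : MulAut T} {m : ℕ} (hm : Odd m) (hα : α ^ m = 1)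
    {x : T} (h : α (x⁻¹ * α x) = x⁻¹ * α x) : α x = x := by
  set n := x⁻¹ * α x with hn
  have h1 : α x = x * n := by rw [hn]; group
  have h2 : ∀ k : ℕ, (α ^ k) x = x * n ^ k := by
    intro k
    induction k with
    | zero => simp
    | succ k ih =>
      rw [pow_succ', MulAut.mul_apply, ih, map_mul, map_pow, h, h1, pow_succ', mul_assoc]
  have h3 := h2 m
  rw [hα, MulAut.one_apply, left_eq_mul] at h3
  rw [h1, eq_one_of_pow_odd hT hm h3, mul_one]

/-- An automorphism of odd order of an abelian 2-group fixing the involutions is trivial. -/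
theorem fix_of_inv (hT : IsPGroup 2 T) {α : MulAut T} {m : ℕ} (hm : Odd m) (hα : α ^ m = 1)
    {H : Subgroup T} (hc : ∀ a ∈ H, ∀ b ∈ H, a * b = b * a) (hH : ∀ a ∈ H, α a ∈ H)
    (h : ∀ a ∈ H, a * a = 1 → α a = a) : ∀ a ∈ H, α a = a := by
  have key : ∀ k : ℕ, ∀ a ∈ H, a ^ 2 ^ k = 1 → α a = a := by
    intro k
    induction k with
    | zero => intro a _ h1; rw [pow_zero, pow_one] at h1; rw [h1, map_one]
    | succ k ih =>
      intro a ha h1
      have h2 : α (a * a) = a * a :=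
        ih _ (mul_mem ha ha) (by rw [← pow_two, ← pow_mul, ← pow_succ', h1])
      refine fix_of_fix hT hm hα (h _ (mul_mem (inv_mem ha) (hH a ha)) ?_)
      have h3 := hc _ (hH a ha) _ (inv_mem ha)
      rw [map_mul] at h2
      calc a⁻¹ * α a * (a⁻¹ * α a) = a⁻¹ * (α a * a⁻¹) * α a := by group
        _ = a⁻¹ * a⁻¹ * (α a * α a) := by rw [h3]; group
        _ = 1 := by rw [h2]; group
  intro a ha
  obtain ⟨k, hk⟩ := hT a
  exact key k a ha hk

/-- An automorphism of odd order normalising a cyclic 2-group centralises it. -/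
theorem fix_of_cyc [Finite T] (hT : IsPGroup 2 T) {α : MulAut T} {m : ℕ} (hm : Odd m)
    (hα : α ^ m = 1) {w : T} (hw : α w ∈ zpowers w) : ∀ a ∈ zpowers w, α a = a := by
  have hH : ∀ a ∈ zpowers w, α a ∈ zpowers w := by
    rintro _ ⟨k, rfl⟩
    simp only [map_zpow]
    exact zpow_mem hw k
  refine fix_of_inv hT hm hα ?_ hH ?_
  · rintro _ ⟨k, rfl⟩ _ ⟨l, rfl⟩
    simp only [← zpow_add, add_comm]
  · intro a ha h2
    have h3 : α a * α a = 1 := by rw [← map_mul, h2, map_one]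
    have key : ∀ u v : T, v * v = 1 → u ∈ zpowers v → u = 1 ∨ u = v := by
      rintro _ v hv ⟨k, rfl⟩
      have h2 : v ^ (2 : ℤ) = 1 := by rw [zpow_two, hv]
      obtain ⟨l, rfl | rfl⟩ := Int.even_or_odd' k
      · left; simp only [zpow_mul, h2, one_zpow]
      · right; simp only [zpow_add, zpow_mul, h2, one_zpow, one_mul, zpow_one]
    rcases zp_total hT ha (hH a ha) with h | h
    · rcases key _ _ h3 h with h | h
      · rw [h, map_one]
      · exact h.symm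
    · rcases key _ _ h2 h with h | h
      · rw [(map_eq_one_iff α α.injective).1 h, map_one]
      · exact h

theorem isPGroup_of_odd [Finite T] (h : ∀ (g : T) (m : ℕ), Odd m → g ^ m = 1 → g = 1) :
    IsPGroup 2 T := by
  intro g
  obtain ⟨k, m, hm, e⟩ := Nat.exists_eq_two_pow_mul_odd (orderOf_pos g).ne'
  exact ⟨k, h _ m hm (by rw [← pow_mul, ← e, pow_orderOf_eq_one])⟩

end General

namespace Blk

variable {D C : Type*} [Group D] [CommGroup C] (B : Blk D C)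

/-- The generator of `[Y, t]`. -/
def io : D := B.y * (B.t * B.y⁻¹ * B.t⁻¹)

theorem s_conj (c : C) (d : D) : d * B.s c * d⁻¹ = B.s c := by
  rw [← B.s_comm, mul_inv_cancel_right]

theorem s_mem (c : C) : B.s c ∈ B.Y := by
  by_contra h
  have h1 := (B.cover _).resolve_left h
  -- `t` would centralise `Y`
  have h2 : B.t * B.y⁻¹ * B.t⁻¹ = B.y⁻¹ := by
    have h3 := B.Y_comm _ h1 _ (inv_mem B.y_mem)
    have h4 := B.s_comm c B.y⁻¹
    have h5 : B.t⁻¹ * B.y⁻¹ = B.y⁻¹ * B.t⁻¹ := by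
      apply mul_left_cancel (a := B.s c)
      rw [← mul_assoc, h3, ← mul_assoc, ← mul_assoc, h4]
    rw [mul_assoc, ← h5, mul_inv_cancel_left]
  apply B.sq_ne
  rw [h2, mul_inv_cancel, one_pow]

theorem bar_mem {a : D} (ha : a ∈ B.Y) : B.t * a * B.t⁻¹ ∈ B.Y := by
  have : B.t * a * B.t⁻¹ = a⁻¹ * B.s (B.δ a) := by rw [← B.norm a ha, inv_mul_cancel_left]
  rw [this]; exact mul_mem (inv_mem ha) (B.s_mem _)

theorem conj_in {a d : D} (ha : a ∈ B.Y) (hd : d ∈ B.Y) : d * a * d⁻¹ = a := by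
  rw [B.Y_comm d hd a ha, mul_inv_cancel_right]

theorem conj_out {a d : D} (ha : a ∈ B.Y) (hd : d ∉ B.Y) : d * a * d⁻¹ = B.t * a * B.t⁻¹ := by
  have h := B.conj_in (B.bar_mem ha) ((B.cover d).resolve_left hd)
  rw [← h]; group

theorem conj_mem {a : D} (ha : a ∈ B.Y) (d : D) : d * a * d⁻¹ ∈ B.Y := by
  by_cases hd : d ∈ B.Y
  · rw [B.conj_in ha hd]; exact ha
  · rw [B.conj_out ha hd]; exact B.bar_mem ha

theorem bar_eq_inv {a : D} (ha : a ∈ B.Y) (h : B.δ a = 1) : B.t * a * B.t⁻¹ = a⁻¹ := by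
  have := B.norm a ha
  rw [h, map_one] at this
  exact eq_inv_of_mul_eq_one_right this

theorem mul_mem_of_out {d d' : D} (hd : d ∉ B.Y) (hd' : d' ∉ B.Y) : d * d' ∈ B.Y := by
  have h1 := (B.cover d).resolve_left hd
  have h2 := (B.cover d'⁻¹).resolve_left (fun h => hd' (by simpa using inv_mem h))
  have h8 : d * d' = (d * B.t⁻¹) * (d'⁻¹ * B.t⁻¹)⁻¹ := by group
  rw [h8]; exact mul_mem h1 (inv_mem h2)

theorem mul_mem_iff {d d' : D} : d * d' ∈ B.Y ↔ (d ∈ B.Y ↔ d' ∈ B.Y) := by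
  by_cases hd : d ∈ B.Y
  · simp [hd, mul_mem_cancel_left hd]
  · by_cases hd' : d' ∈ B.Y
    · simp [hd, hd', mul_mem_cancel_right hd']
    · simp [hd, hd', B.mul_mem_of_out hd hd']

theorem δ_s (c : C) : B.δ (B.s c) = c * c := by
  apply B.s_inj
  rw [← B.norm _ (B.s_mem c), B.s_conj, map_mul]

theorem io_mem : B.io ∈ B.Y := mul_mem B.y_mem (B.bar_mem (inv_mem B.y_mem))

theorem δ_eta (a : D) : B.δ (a * (B.t * a⁻¹ * B.t⁻¹)) = 1 := by
  simp [B.δ_t]

theorem δ_io : B.δ B.io = 1 := B.δ_eta _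

theorem bar_io : B.t * B.io * B.t⁻¹ = B.io⁻¹ := B.bar_eq_inv B.io_mem B.δ_io

theorem io_sq : B.io * B.io ≠ 1 := by rw [← pow_two]; exact B.sq_ne

theorem bar_zpow (n : ℤ) : B.t * B.io ^ n * B.t⁻¹ = (B.io ^ n)⁻¹ := by
  rw [← conj_zpow, B.bar_io, inv_zpow]

theorem conj_io (d : D) : d * B.io * d⁻¹ = B.io ∨ d * B.io * d⁻¹ = B.io⁻¹ := by
  by_cases hd : d ∈ B.Y
  · exact Or.inl (B.conj_in B.io_mem hd)
  · exact Or.inr ((B.conj_out B.io_mem hd).trans B.bar_io)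

/-- A scalar power of `ι` has square one. -/
theorem zpow_inv_of_s {n : ℤ} {c : C} (h : B.io ^ n = B.s c) : (B.io ^ n)⁻¹ = B.io ^ n := by
  rw [← B.bar_zpow, h, B.s_conj]

theorem io_ne (c : C) : B.io ≠ B.s c := by
  intro h
  have := B.zpow_inv_of_s (n := 1) (c := c) (by rw [zpow_one, h])
  rw [zpow_one] at this
  apply B.io_sq
  nth_rewrite 1 [← this]
  rw [inv_mul_cancel]

theorem conj_io_ne (d : D) (c : C) : d * B.io⁻¹ * d⁻¹ ≠ B.s c := by
  intro h
  apply B.io_ne c⁻¹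
  have h1 := B.s_conj c d⁻¹
  rw [← h] at h1
  rw [map_inv, ← h, ← h1]; group

theorem t_sq : ∃ c : C, c * c = 1 ∧ B.t * B.t = B.s c := by
  obtain ⟨c, hc⟩ := B.fix _ (B.mul_mem_of_out B.t_not B.t_not) (by group)
  refine ⟨c, ?_, hc⟩
  rw [← B.δ_s, ← hc, map_mul, B.δ_t, one_mul]

/-- The centraliser of `ι` and `t` consists of scalars. -/
theorem cent {w : D} (h1 : w * B.io * w⁻¹ = B.io) (h2 : w * B.t * w⁻¹ = B.t) :
    ∃ c, w = B.s c := by
  have hw : w ∈ B.Y := by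
    by_contra hw
    rw [B.conj_out B.io_mem hw, B.bar_io] at h1
    apply B.io_sq
    nth_rewrite 1 [← h1]
    rw [inv_mul_cancel]
  refine B.fix w hw ?_
  nth_rewrite 1 [← h2]
  group

theorem eta_eq_one {a : D} (ha : a ∈ B.Y) (h : a * (B.t * a⁻¹ * B.t⁻¹) = 1) : ∃ c, a = B.s c := by
  refine B.fix a ha ?_
  have := eq_inv_of_mul_eq_one_left h
  nth_rewrite 2 [this]
  group

theorem exists_inv (hD : IsPGroup 2 D) : ∃ (j : ℕ) (c : C), c * c = 1 ∧ c ≠ 1 ∧ B.io ^ j = B.s c := by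
  obtain ⟨k, hk⟩ := hD B.io
  have key : ∀ k : ℕ, B.io ^ 2 ^ k = 1 → ∃ j : ℕ, B.io ^ j ≠ 1 ∧ B.io ^ j * B.io ^ j = 1 := by
    intro k
    induction k with
    | zero =>
      intro h; rw [pow_zero, pow_one] at h
      exact absurd (by rw [h, mul_one]) B.io_sq
    | succ k ih =>
      intro h
      by_cases h2 : B.io ^ 2 ^ k = 1
      · exact ih h2
      · exact ⟨_, h2, by rw [← pow_two, ← pow_mul, ← pow_succ, h]⟩
  obtain ⟨j, hj, hj2⟩ := key k hk
  obtain ⟨c', hc'⟩ := B.fix _ (pow_mem B.io_mem j) (by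
    have := B.bar_zpow j
    rw [zpow_natCast] at this
    rw [this]; exact inv_eq_of_mul_eq_one_right hj2)
  exact ⟨j, c', B.s_inj (by rw [map_mul, ← hc', hj2, map_one]),
    fun h => hj (by rw [hc', h, map_one]), hc'⟩

/-- Scalar involutions lie in `⟨ι⟩`. -/
theorem s_mem_zpowers (hD : IsPGroup 2 D) {c : C} (hc : c * c = 1) : B.s c ∈ zpowers B.io := by
  by_cases h1 : c = 1
  · rw [h1, map_one]; exact one_mem _
  obtain ⟨j, c', h2, h3, hc'⟩ := B.exists_inv hD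
  rw [B.inv_uniq c c' hc h2 h1 h3, ← hc']
  exact pow_mem (mem_zpowers _) j

theorem eta_pow (n : ℕ) : B.y ^ n * (B.t * (B.y ^ n)⁻¹ * B.t⁻¹) = B.io ^ n := by
  have h : Commute B.y (B.t * B.y⁻¹ * B.t⁻¹) := B.Y_comm _ B.y_mem _ (B.bar_mem (inv_mem B.y_mem))
  rw [io, h.mul_pow, conj_pow, inv_pow]

theorem y_not_mem (hD : IsPGroup 2 D) : B.y ∉ zpowers B.io := by
  rintro ⟨n, hn⟩
  dsimp only at hn
  have h1 : B.io = B.io ^ (2 * n) := by
    have h2 := B.bar_zpow (-n)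
    rw [zpow_neg, inv_inv, hn] at h2
    nth_rewrite 1 [io]
    rw [h2, ← hn, two_mul, zpow_add]
  have h2 : B.io ^ (2 * n - 1) = 1 := by rw [zpow_sub, ← h1, zpow_one, mul_inv_cancel]
  have h3 : B.io ^ (2 * n - 1).natAbs = 1 := by
    rw [← zpow_natCast]
    rcases Int.natAbs_eq (2 * n - 1) with h | h
    · rw [← h, h2]
    · rw [← neg_neg ((2 * n - 1).natAbs : ℤ), ← h, zpow_neg, h2, inv_one]
  have h4 := eq_one_of_pow_odd hD (Int.natAbs_odd.2 ⟨n - 1, by ring⟩) h3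
  exact B.io_sq (by rw [h4, mul_one])

theorem card_lt [Finite D] (hD : IsPGroup 2 D) : orderOf B.io < Nat.card B.Y := by
  rw [← Nat.card_zpowers]
  have h : zpowers B.io < B.Y :=
    lt_of_le_of_ne (zpowers_le.2 B.io_mem) (fun h => B.y_not_mem hD (h ▸ B.y_mem))
  exact lt_of_le_of_ne (card_le_of_le h.le) (fun e => h.ne (eq_of_le_of_card_ge h.le e.ge))

/-- If `ι⁴ = 1` and `η(a)² = 1`, then `δ(a)² = 1`. -/
theorem δ_sq {a : D} (ha : a ∈ B.Y) (h4 : B.io ^ 4 = 1)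
    (h : (a * (B.t * a⁻¹ * B.t⁻¹)) * (a * (B.t * a⁻¹ * B.t⁻¹)) = 1) : B.δ a * B.δ a = 1 := by
  obtain ⟨n, hn⟩ := B.cyc a ha
  change B.io ^ n = _ at hn
  have h4' : B.io ^ (4 : ℤ) = 1 := by exact_mod_cast h4
  obtain ⟨m, rfl | rfl⟩ := Int.even_or_odd' n
  · have hm : B.io ^ m ∈ B.Y := zpow_mem B.io_mem m
    obtain ⟨c, hc⟩ := B.eta_eq_one (mul_mem ha (inv_mem hm)) (by
      have h1 := B.bar_zpow m
      have h2 := B.Y_comm _ (inv_mem hm) _ (B.bar_mem (inv_mem ha))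
      calc a * (B.io ^ m)⁻¹ * (B.t * (a * (B.io ^ m)⁻¹)⁻¹ * B.t⁻¹)
          = a * (B.io ^ m)⁻¹ * ((B.t * B.io ^ m * B.t⁻¹) * (B.t * a⁻¹ * B.t⁻¹)) := by group
        _ = a * (B.io ^ m)⁻¹ * ((B.t * a⁻¹ * B.t⁻¹) * (B.io ^ m)⁻¹) := by rw [h1, h2]
        _ = a * ((B.io ^ m)⁻¹ * (B.t * a⁻¹ * B.t⁻¹)) * (B.io ^ m)⁻¹ := by group
        _ = a * (B.t * a⁻¹ * B.t⁻¹) * (B.io ^ m)⁻¹ * (B.io ^ m)⁻¹ := by rw [h2]; group
        _ = 1 := by rw [← hn]; group)
    have h1 : B.δ a = c * c := by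
      rw [← B.δ_s, ← hc, map_mul, map_inv, map_zpow, B.δ_io, one_zpow, inv_one, mul_one]
    rw [h1, ← B.four h4 c, pow_succ, pow_succ, pow_two]
    simp only [mul_assoc]
  · exfalso
    apply B.io_sq
    rw [← hn, ← zpow_add, show 2 * m + 1 + (2 * m + 1) = 4 * m + 2 by ring, zpow_add, zpow_mul,
      h4', one_zpow, one_mul, zpow_two] at h
    exact h

end Blk

end Cfsg.Lib.Kasp
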