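import Cfsg.Agent.Kasp.AutA

/-!
# The torus of a Sylow 2-subgroup of `PSL_n(q)` is characteristic
-/

set_option autoImplicit false

namespace Cfsg.Lib.Kasp

open Subgroup Equiv
open scoped commutatorElement

namespace Mod

variable {D C : Type*} [Group D] [CommGroup C] {B : Blk D C} {ι : Type*} [Fintype ι] {R : Prop}
  {X T : Type*} [Group X] [Group T] (M : Mod B ι R X T)

theorem c_one (j : ι) : M.c 1 j = 1 := by
  have := M.c_mul 1 1 j
  simpa using this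

theorem c_inv (x : X) (j : ι) : M.c x⁻¹ j = (M.c x (M.π x j))⁻¹ := by
  have := M.c_mul x⁻¹ x j
  rw [inv_mul_cancel, c_one, map_inv, inv_inv] at this
  exact eq_inv_of_mul_eq_one_left this.symm

theorem c_mul' {x : X} (hx : M.π x = 1) (x' : X) (j : ι) :
    M.c (x * x') j = M.c x j * M.c x' j := by
  rw [M.c_mul, hx]; rfl

theorem c_inv' {x : X} (hx : M.π x = 1) (j : ι) : M.c x⁻¹ j = (M.c x j)⁻¹ := by
  rw [M.c_inv, hx]; rfl

theorem c_pow {x : X} (hx : M.π x = 1) (j : ι) (n : ℕ) : M.c (x ^ n) j = M.c x j ^ n := by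
  induction n with
  | zero => simp [c_one]
  | succ n ih => rw [pow_succ', M.c_mul' hx, ih, pow_succ']

theorem c_zpow {x : X} (hx : M.π x = 1) (j : ι) (n : ℤ) : M.c (x ^ n) j = M.c x j ^ n := by
  obtain ⟨m, rfl | rfl⟩ := n.eq_nat_or_neg
  · simp [M.c_pow hx]
  · rw [zpow_neg, zpow_neg, zpow_natCast, zpow_natCast, M.c_inv' (by simp [hx]), M.c_pow hx]

theorem π_comm {h : X} (hh : M.π h = 1) (x : X) : M.π ⁅h, x⁆ = 1 := by
  simp [commutatorElement_def, hh]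

theorem e_comm (h x : X) : M.e ⁅h, x⁆ = 1 := by
  simp [commutatorElement_def]

theorem c_comm {h : X} (hh : M.π h = 1) (x : X) (j : ι) :
    M.c ⁅h, x⁆ j = M.c h j * (M.c x j * (M.c h ((M.π x)⁻¹ j))⁻¹ * (M.c x j)⁻¹) := by
  rw [commutatorElement_def, M.c_mul, M.c_mul, M.c_mul' hh, M.c_inv' hh, M.c_inv]
  simp [hh, mul_assoc]

theorem c_comm' {h x : X} (hh : M.π h = 1) (hx : M.π x = 1) (j : ι) :
    M.c ⁅h, x⁆ j = M.c h j * (M.c x j * (M.c h j)⁻¹ * (M.c x j)⁻¹) := by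
  rw [M.c_comm hh, hx]; rfl

theorem φ_eq {x x' : X} (hx' : M.π x' = 1) (h : M.φ x = M.φ x') :
    ∃ l, (∀ j, M.c x j = M.c x' j * B.s l) ∧ (R → M.e x = M.e x' * l) := by
  obtain ⟨-, l, h1, h2⟩ := (M.ker (x'⁻¹ * x)).1 (by rw [map_mul, map_inv, h, inv_mul_cancel])
  refine ⟨l, fun j => ?_, fun r => ?_⟩
  · rw [← h1 j, M.c_mul' (by simp [hx']), M.c_inv' hx', mul_inv_cancel_left]
  · rw [← h2 r, map_mul, map_inv, mul_inv_cancel_left]

theorem π_eq {x x' : X} (h : M.φ x = M.φ x') : M.π x = M.π x' := by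
  have := ((M.ker (x'⁻¹ * x)).1 (by rw [map_mul, map_inv, h, inv_mul_cancel])).1
  rw [map_mul, map_inv, inv_mul_eq_one] at this
  exact this.symm

theorem mem_iff {x x' : X} (h : M.φ x = M.φ x') (j : ι) : M.c x j ∈ B.Y ↔ M.c x' j ∈ B.Y := by
  obtain ⟨h0, l, h1, -⟩ := (M.ker (x * x'⁻¹)).1 (by rw [map_mul, map_inv, h, mul_inv_cancel])
  have : M.c x j = B.s l * M.c x' j := by
    rw [← h1 j, ← M.c_mul' h0, inv_mul_cancel_right]
  rw [this, mul_mem_cancel_left (B.s_mem l)]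

theorem φ_ext {x x' : X} (hx : M.π x = 1) (hx' : M.π x' = 1) (l : C)
    (h : ∀ j, M.c x j = M.c x' j * B.s l) (he : R → M.e x = M.e x' * l) : M.φ x = M.φ x' := by
  have := (M.ker (x'⁻¹ * x)).2 ⟨by simp [hx, hx'], l, fun j => by
    rw [M.c_mul' (by simp [hx']), M.c_inv' hx', h, inv_mul_cancel_left],
    fun r => by rw [map_mul, map_inv, he r, inv_mul_cancel_left]⟩
  rw [map_mul, map_inv, inv_mul_eq_one] at this
  exact this.symm

theorem e_eq_one {x : X} (h : ∀ j, B.δ (M.c x j) = 1) : M.e x = 1 := by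
  have := M.det x
  simpa [h] using this

/-- An element supported on one block. -/
theorem ex1 (i : ι) (q : D) (hq : ¬ R → B.δ q = 1) :
    ∃ x, M.π x = 1 ∧ M.c x i = q ∧ ∀ j, j ≠ i → M.c x j = 1 := by
  classical
  obtain ⟨x, h1, h2⟩ := M.ex 1 (one_mem _) (Pi.mulSingle i q) (fun r => by
    rw [Finset.prod_eq_single i]
    · simp [hq r]
    · intro j _ hj; simp [Pi.mulSingle_eq_of_ne hj]
    · simp)
  exact ⟨x, h1, by simp [h2], fun j hj => by simp [h2, Pi.mulSingle_eq_of_ne hj]⟩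

/-- An element supported on two blocks. -/
theorem ex2 {i k : ι} (hik : i ≠ k) (a b : D) (hq : B.δ a * B.δ b = 1) :
    ∃ x, M.π x = 1 ∧ M.c x i = a ∧ M.c x k = b ∧ ∀ j, j ≠ i → j ≠ k → M.c x j = 1 := by
  classical
  obtain ⟨x, h1, h2⟩ := M.ex 1 (one_mem _) (Pi.mulSingle i a * Pi.mulSingle k b) (fun _ => by
    simp only [Pi.mul_apply, map_mul, Finset.prod_mul_distrib]
    rw [Finset.prod_eq_single i, Finset.prod_eq_single k]
    · simpa using hq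
    · intro j _ hj; simp [Pi.mulSingle_eq_of_ne hj]
    · simp
    · intro j _ hj; simp [Pi.mulSingle_eq_of_ne hj]
    · simp)
  refine ⟨x, h1, ?_, ?_, fun j hj hk => ?_⟩
  · simp [h2, Pi.mulSingle_eq_of_ne hik]
  · simp [h2, Pi.mulSingle_eq_of_ne hik.symm]
  · simp [h2, Pi.mulSingle_eq_of_ne hj, Pi.mulSingle_eq_of_ne hk]

/-- The torus. -/
def A : Subgroup X where
  carrier := {x | M.π x = 1 ∧ ∀ j, M.c x j ∈ B.Y}
  mul_mem' := fun {a b} ha hb =>
    ⟨by rw [map_mul, ha.1, hb.1, mul_one], fun j => by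
      rw [M.c_mul' ha.1]; exact mul_mem (ha.2 j) (hb.2 j)⟩
  one_mem' := ⟨map_one _, fun j => by rw [M.c_one]; exact one_mem _⟩
  inv_mem' := fun {a} ha =>
    ⟨by rw [map_inv, ha.1, inv_one], fun j => by rw [M.c_inv' ha.1]; exact inv_mem (ha.2 j)⟩

/-- The image of the torus. -/
def Ab : Subgroup T := M.A.map M.φ

theorem mem_Ab {x : X} : M.φ x ∈ M.Ab ↔ M.π x = 1 ∧ ∀ j, M.c x j ∈ B.Y := by
  constructor
  · rintro ⟨a, ha, e⟩
    exact ⟨(M.π_eq e).symm.trans ha.1, fun j => (M.mem_iff e j).1 (ha.2 j)⟩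
  · intro h; exact ⟨x, h, rfl⟩

theorem Ab_comm {a b : T} (ha : a ∈ M.Ab) (hb : b ∈ M.Ab) : a * b = b * a := by
  obtain ⟨a, ha, rfl⟩ := ha
  obtain ⟨b, hb, rfl⟩ := hb
  rw [← map_mul, ← map_mul]
  refine M.φ_ext (mul_mem ha hb : a * b ∈ M.A).1 (mul_mem hb ha : b * a ∈ M.A).1 1 (fun j => ?_)
    (fun _ => ?_)
  · rw [M.c_mul' ha.1, M.c_mul' hb.1, map_one, mul_one, B.Y_comm _ (ha.2 j) _ (hb.2 j)]
  · rw [map_mul, map_mul, mul_one, mul_comm]

theorem Ab_conj {a : T} (ha : a ∈ M.Ab) (g : T) : g * a * g⁻¹ ∈ M.Ab := by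
  obtain ⟨a, ha, rfl⟩ := ha
  obtain ⟨x, rfl⟩ := M.φ_surj g
  have h1 : M.φ ⁅a⁻¹, x⁆ ∈ M.Ab := by
    have ha' : a⁻¹ ∈ M.A := inv_mem ha
    refine M.mem_Ab.2 ⟨M.π_comm ha'.1 x, fun j => ?_⟩
    rw [M.c_comm ha'.1]
    exact mul_mem (ha'.2 j) (B.conj_mem (inv_mem (ha'.2 _)) _)
  have h2 := mul_mem (show M.φ a ∈ M.Ab from ⟨a, ha, rfl⟩) h1
  simpa [commutatorElement_def, mul_assoc] using h2

/-- The scalar is trivial on an element supported on one block. -/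
theorem one_of_single (big : (∃ i j : ι, i ≠ j) ∨ (R ∧ Nonempty ι)) {x : X} {i : ι}
    (h : ∀ j, j ≠ i → M.c x j = 1) (he : M.e x = 1) (h1 : M.φ x = 1) : M.c x i = 1 := by
  obtain ⟨-, l, h2, h3⟩ := (M.ker x).1 h1
  have : l = 1 := by
    rcases big with ⟨a, b, hab⟩ | ⟨r, -⟩
    · obtain ⟨j, hj⟩ : ∃ j, j ≠ i := by
        by_cases ha : a = i
        · exact ⟨b, fun hb => hab (ha.trans hb.symm)⟩
        · exact ⟨a, ha⟩
      exact B.s_inj (by rw [← h2 j, h j hj, map_one])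
    · rw [← h3 r, he]
  rw [h2, this, map_one]

section Step1

variable {x : X} (hx : ∀ h : X, M.φ ⁅⁅h, x⁆, x⁆ = 1)
include hx

theorem step1 (i : ι) : M.π x (M.π x i) = i := by
  by_contra hne
  have hj : M.π x i ≠ i := fun h => hne (by rw [h, h])
  have hk : M.π x (M.π x i) ≠ M.π x i := fun h => hj ((M.π x).injective h)
  obtain ⟨h, h1, h2, h3⟩ := M.ex1 i B.io (fun _ => B.δ_io)
  obtain ⟨-, l, h4, -⟩ := (M.ker _).1 (hx h)
  have h5 := h4 (M.π x (M.π x i))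
  rw [M.c_comm (M.π_comm h1 x), M.c_comm h1, M.c_comm h1] at h5
  simp only [Perm.coe_inv, symm_apply_apply] at h5
  rw [h3 _ hne, h3 _ hj, h2] at h5
  refine B.conj_io_ne (M.c x (M.π x (M.π x i)) * M.c x (M.π x i)) l⁻¹ ?_
  rw [map_inv, ← h5]; group

theorem step2 (h2 : M.φ x * M.φ x ≠ 1) : M.π x = 1 := by
  by_contra hne
  obtain ⟨i, hj⟩ : ∃ i, M.π x i ≠ i := by
    by_contra h
    push Not at h
    exact hne (Perm.ext h)
  have hji := M.step1 hx i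
  set j := M.π x i with hjdef
  have hi' : (M.π x)⁻¹ i = j := by rw [Perm.inv_eq_iff_eq, hji]
  have hj' : (M.π x)⁻¹ j = i := by rw [Perm.inv_eq_iff_eq]
  have key : ∀ q : D, B.δ q = 1 → ∃ l, q * (M.c x i * M.c x j * q * (M.c x i * M.c x j)⁻¹) = B.s l ∧
      (q * q)⁻¹ = B.s l ∧ ((R ∨ ∃ k, k ≠ i ∧ k ≠ j) → l = 1) := by
    intro q hq
    obtain ⟨h, h1, h2, h3⟩ := M.ex1 i q (fun _ => hq)
    obtain ⟨-, l, h4, h5⟩ := (M.ker _).1 (hx h)
    have ui : M.c ⁅h, x⁆ i = q := by rw [M.c_comm h1, hi', h2, h3 _ hj]; group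
    have uj : M.c ⁅h, x⁆ j = M.c x j * q⁻¹ * (M.c x j)⁻¹ := by
      rw [M.c_comm h1, hj', h2, h3 _ hj, one_mul]
    refine ⟨l, ?_, ?_, ?_⟩
    · rw [← h4 i, M.c_comm (M.π_comm h1 x), hi', ui, uj]; group
    · have h6 := h4 j
      rw [M.c_comm (M.π_comm h1 x), hj', ui, uj] at h6
      rw [← B.s_conj l (M.c x j)⁻¹, ← h6]; group
    · rintro (r | ⟨k, hki, hkj⟩)
      · rw [← h5 r, M.e_comm]
      · have hk1 : (M.π x)⁻¹ k ≠ i := fun e => hkj (by rw [← hj'] at e; exact (M.π x)⁻¹.injective e)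
        have hk2 : (M.π x)⁻¹ k ≠ j := fun e => hki (by rw [← hi'] at e; exact (M.π x)⁻¹.injective e)
        have hk3 : (M.π x)⁻¹ ((M.π x)⁻¹ k) ≠ i := fun e => hk2 (by
          rw [← hj'] at e; exact (M.π x)⁻¹.injective e)
        have h6 := h4 k
        rw [M.c_comm (M.π_comm h1 x), M.c_comm h1, M.c_comm h1, h3 _ hki, h3 _ hk1, h3 _ hk3] at h6
        apply B.s_inj
        rw [← h6, map_one]; group
  obtain ⟨l, a1, a2, a3⟩ := key B.io B.δ_io
  by_cases hs : R ∨ ∃ k, k ≠ i ∧ k ≠ j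
  · rw [a3 hs, map_one, inv_eq_one] at a2
    exact B.io_sq a2
  obtain ⟨l', b1, b2, -⟩ := key B.t B.δ_t
  have c1 : (B.io * B.io)⁻¹ = B.io * B.io := by
    have := B.zpow_inv_of_s (n := -2) (c := l) (by rw [← a2]; group)
    have e : B.io ^ (-2 : ℤ) = (B.io * B.io)⁻¹ := by group
    rw [e, inv_inv] at this
    exact this.symm
  have c2 : (B.t * B.t)⁻¹ = B.t * B.t := by
    obtain ⟨c, hc, hc'⟩ := B.t_sq
    rw [hc', ← map_inv, inv_eq_of_mul_eq_one_right hc]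
  obtain ⟨ν, hν⟩ := B.cent (w := M.c x i * M.c x j)
    (mul_left_cancel (a1.trans (a2.symm.trans c1))) (mul_left_cancel (b1.trans (b2.symm.trans c2)))
  rw [not_or] at hs
  apply h2
  rw [← map_mul, M.ker]
  have hall : ∀ k, k = i ∨ k = j := fun k => by
    by_contra h
    rw [not_or] at h
    exact hs.2 ⟨k, h⟩
  refine ⟨?_, ν, fun k => ?_, fun r => absurd r hs.1⟩
  · rw [map_mul]; exact Perm.ext (M.step1 hx)
  · rcases hall k with rfl | rfl
    · rw [M.c_mul, hi', hν]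
    · rw [M.c_mul, hj', ← B.s_conj ν (M.c x j), ← hν]; group

theorem step3 (big : (∃ i j : ι, i ≠ j) ∨ (R ∧ Nonempty ι)) (h2 : M.φ x * M.φ x ≠ 1) (i : ι) :
    M.c x i ∈ B.Y := by
  by_contra hi
  have hπ := M.step2 hx h2
  have cc : ∀ h, M.π h = 1 → ∀ j, M.c ⁅⁅h, x⁆, x⁆ j = M.c ⁅h, x⁆ j *
      (M.c x j * (M.c ⁅h, x⁆ j)⁻¹ * (M.c x j)⁻¹) := fun h h1 j =>
    M.c_comm' (M.π_comm h1 x) hπ j
  have triv : ∀ h, M.π h = 1 → ∀ j, M.c h j = 1 → M.c ⁅⁅h, x⁆, x⁆ j = 1 := fun h h1 j hj => by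
    rw [cc h h1, M.c_comm' h1 hπ, hj]; group
  have out : ∀ h, M.π h = 1 → ∀ j, M.c x j ∉ B.Y → ∀ u ∈ B.Y, B.δ u = 1 → M.c ⁅h, x⁆ j = u →
      M.c ⁅⁅h, x⁆, x⁆ j = u * u := fun h h1 j hj u hu hδ e => by
    rw [cc h h1, e, B.conj_out (inv_mem hu) hj,
      B.bar_eq_inv (inv_mem hu) (by rw [map_inv, hδ, inv_one]), inv_inv]
  have yi : ∀ h, M.π h = 1 → M.c h i = B.y → M.c ⁅⁅h, x⁆, x⁆ i = B.io * B.io := fun h h1 e =>
    out h h1 i hi _ B.io_mem B.δ_io (by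
      rw [M.c_comm' h1 hπ, e, B.conj_out (inv_mem B.y_mem) hi]; rfl)
  by_cases r : R
  · obtain ⟨h, h1, h2, h3⟩ := M.ex1 i B.y (fun h => absurd r h)
    have := M.one_of_single big (i := i) (fun j hj => triv h h1 j (h3 j hj)) (M.e_comm _ _) (hx h)
    rw [yi h h1 h2] at this
    exact B.io_sq this
  obtain ⟨k, hk⟩ : ∃ k, i ≠ k := by
    obtain ⟨a, b, hab⟩ := big.resolve_right (fun h => r h.1)
    by_cases ha : i = a
    · exact ⟨b, ha ▸ hab⟩
    · exact ⟨a, ha⟩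
  obtain ⟨h, h1, h2', h3, h4⟩ := M.ex2 hk B.y B.y⁻¹ (by simp)
  obtain ⟨-, l, h5, -⟩ := (M.ker _).1 (hx h)
  have hl : ∀ j, M.c ⁅⁅h, x⁆, x⁆ j ≠ 1 := fun j e => by
    apply B.io_sq
    rw [← yi h h1 h2', h5 i, ← h5 j, e]
  have hall : ∀ j, j = i ∨ j = k := fun j => by
    by_contra hj
    rw [not_or] at hj
    exact hl j (triv h h1 j (h4 j hj.1 hj.2))
  have hko : M.c x k ∉ B.Y := fun hk => hl k (by
    rw [cc h h1, M.c_comm' h1 hπ, h3, inv_inv, B.conj_in B.y_mem hk]; group)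
  have h6 : M.c ⁅⁅h, x⁆, x⁆ k = B.io⁻¹ * B.io⁻¹ :=
    out h h1 k hko _ (inv_mem B.io_mem) (by rw [map_inv, B.δ_io, inv_one]) (by
      rw [M.c_comm' h1 hπ, h3, inv_inv, B.conj_out B.y_mem hko, Blk.io,
        B.Y_comm _ (inv_mem B.y_mem) _ (B.bar_mem B.y_mem)]
      group)
  have io4 : B.io ^ 4 = 1 := by
    have : B.io * B.io = B.io⁻¹ * B.io⁻¹ := by rw [← h6, h5 k, ← h5 i, yi h h1 h2']
    calc B.io ^ 4 = B.io * B.io * (B.io * B.io) := by simp only [pow_succ, pow_zero]; group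
      _ = 1 := by nth_rewrite 1 [this]; group
  have ha := (B.cover _).resolve_left hi
  have hb := (B.cover _).resolve_left hko
  set a := M.c x i * B.t⁻¹ with hadef
  set b := M.c x k * B.t⁻¹ with hbdef
  have ea : M.c x i = a * B.t := by rw [hadef]; group
  have eb : M.c x k = b * B.t := by rw [hbdef]; group
  have d1 : B.δ a * B.δ a = 1 := by
    obtain ⟨g, g1, g2, g3⟩ := M.ex1 i B.t (fun _ => B.δ_t)
    have := M.one_of_single big (i := i) (fun j hj => triv g g1 j (g3 j hj)) (M.e_comm _ _) (hx g)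
    have hη : a * (B.t * a⁻¹ * B.t⁻¹) ∈ B.Y := mul_mem ha (B.bar_mem (inv_mem ha))
    rw [out g g1 i hi _ (inv_mem hη) (by rw [map_inv, B.δ_eta, inv_one])
      (by rw [M.c_comm' g1 hπ, g2, ea]; group), ← mul_inv_rev, inv_eq_one] at this
    exact B.δ_sq ha io4 this
  have d2 : B.δ a * B.δ b = 1 := by
    classical
    have := M.det x
    rw [M.e_eq r, mul_one, show (Finset.univ : Finset ι) = {i, k} from
      Finset.ext fun j => by simpa using hall j, Finset.prod_pair hk, ea, eb] at this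
    simpa [B.δ_t] using this
  have d3 : B.δ b = B.δ a := mul_left_cancel (d2.trans d1.symm)
  obtain ⟨μ, -, hμ⟩ := B.t_sq
  have sq : ∀ u ∈ B.Y, u * B.t * (u * B.t) = B.s (B.δ u * μ) := fun u hu => by
    rw [map_mul, ← hμ, ← B.norm u hu]; group
  apply h2
  rw [← map_mul, M.ker]
  refine ⟨by rw [map_mul, hπ, mul_one], B.δ a * μ, fun j => ?_, fun h => absurd h r⟩
  rw [M.c_mul' hπ]
  rcases hall j with rfl | rfl
  · rw [ea, sq a ha]
  · rw [eb, sq b hb, d3]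

end Step1

theorem mem_Ab_of_comm (big : (∃ i j : ι, i ≠ j) ∨ (R ∧ Nonempty ι)) {g : T}
    (h : ∀ k : T, Commute (k * g * k⁻¹) g) (h2 : g * g ≠ 1) : g ∈ M.Ab := by
  obtain ⟨x, rfl⟩ := M.φ_surj g
  have hx : ∀ h : X, M.φ ⁅⁅h, x⁆, x⁆ = 1 := fun k => by
    rw [map_commutatorElement, map_commutatorElement, commutatorElement_eq_one_iff_commute]
    exact (h _).mul_left (Commute.refl _).inv_left
  exact M.mem_Ab.2 ⟨M.step2 hx h2, M.step3 hx big h2⟩

/-- The torus is characteristic. -/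
theorem map_mem_Ab (big : (∃ i j : ι, i ≠ j) ∨ (R ∧ Nonempty ι)) (α : MulAut T) {a : T}
    (ha : a ∈ M.Ab) : α a ∈ M.Ab := by
  have key : ∀ a ∈ M.Ab, a * a ≠ 1 → α a ∈ M.Ab := fun a ha h2 => by
    refine M.mem_Ab_of_comm big (fun k => ?_) (fun h => h2 ?_)
    · obtain ⟨k, rfl⟩ := α.surjective k
      rw [← map_inv, ← map_mul, ← map_mul]
      exact Commute.map (M.Ab_comm (M.Ab_conj ha k) ha) α
    · rwa [← map_mul, map_eq_one_iff α α.injective] at h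
  by_cases h2 : a * a = 1
  · obtain ⟨i⟩ : Nonempty ι := big.elim (fun ⟨i, _⟩ => ⟨i⟩) (fun h => h.2)
    obtain ⟨x, h1, h3, h4⟩ := M.ex1 i B.io (fun _ => B.δ_io)
    have hx : M.φ x ∈ M.Ab := M.mem_Ab.2 ⟨h1, fun j => by
      by_cases hj : j = i
      · rw [hj, h3]; exact B.io_mem
      · rw [h4 j hj]; exact one_mem _⟩
    have he : M.e x = 1 := M.e_eq_one fun j => by
      by_cases hj : j = i
      · rw [hj, h3]; exact B.δ_io
      · rw [h4 j hj, map_one]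
    have hx2 : M.φ x * M.φ x ≠ 1 := fun h => by
      have := M.one_of_single big (x := x * x) (i := i)
        (fun j hj => by rw [M.c_mul' h1, h4 j hj, mul_one]) (by rw [map_mul, he, mul_one])
        (by rw [map_mul, h])
      rw [M.c_mul' h1, h3] at this
      exact B.io_sq this
    have h5 := key _ (mul_mem ha hx) (by
      rwa [mul_assoc, ← mul_assoc (M.φ x), M.Ab_comm hx ha, mul_assoc, ← mul_assoc, h2, one_mul])
    have h6 := mul_mem h5 (inv_mem (key _ hx hx2))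
    rwa [map_mul, mul_inv_cancel_right] at h6
  · exact key a ha h2

/-- The torus is self-centralising. -/
theorem mem_Ab_of_cent (big : (∃ i j : ι, i ≠ j) ∨ (R ∧ Nonempty ι)) {g : T}
    (h : ∀ a ∈ M.Ab, a * g = g * a) : g ∈ M.Ab := by
  obtain ⟨x, rfl⟩ := M.φ_surj g
  have key : ∀ i, ∃ h, M.π h = 1 ∧ M.c h i = B.io ∧ (∀ j, j ≠ i → M.c h j = 1) ∧
      M.φ ⁅h, x⁆ = 1 := fun i => by
    obtain ⟨y, h1, h3, h4⟩ := M.ex1 i B.io (fun _ => B.δ_io)
    refine ⟨y, h1, h3, h4, ?_⟩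
    rw [map_commutatorElement, commutatorElement_eq_one_iff_mul_comm]
    refine h _ (M.mem_Ab.2 ⟨h1, fun j => ?_⟩)
    by_cases hj : j = i
    · rw [hj, h3]; exact B.io_mem
    · rw [h4 j hj]; exact one_mem _
  have hπ : M.π x = 1 := by
    ext i
    by_contra hne
    obtain ⟨y, h1, h3, h4, h5⟩ := key i
    obtain ⟨-, l, h6, -⟩ := (M.ker _).1 h5
    have h7 := h6 (M.π x i)
    rw [M.c_comm h1, Perm.coe_inv, symm_apply_apply, h3, h4 _ hne, one_mul] at h7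
    exact B.conj_io_ne _ _ h7
  refine M.mem_Ab.2 ⟨hπ, fun i => ?_⟩
  by_contra hi
  obtain ⟨y, h1, h3, h4, h5⟩ := key i
  have := M.one_of_single big (i := i)
    (fun j hj => by rw [M.c_comm' h1 hπ, h4 j hj]; group) (M.e_comm _ _) h5
  rw [M.c_comm' h1 hπ, h3, B.conj_out (inv_mem B.io_mem) hi,
    B.bar_eq_inv (inv_mem B.io_mem) (by rw [map_inv, B.δ_io, inv_one]), inv_inv] at this
  exact B.io_sq this

end Mod

end Cfsg.Lib.Kasp
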