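import Cfsg.Agent.Kasp.AutB

/-!
# The reflections in a Sylow 2-subgroup of `PSL_n(q)`
-/

set_option autoImplicit false

namespace Cfsg.Lib.Kasp

open Subgroup Equiv
open scoped commutatorElement

/-- Even dimension and at most two blocks. -/
def Two (ι : Type*) (R : Prop) : Prop := ¬ R ∧ ∀ i j k : ι, i ≠ j → k = i ∨ k = j

namespace Mod

variable {D C : Type*} [Group D] [CommGroup C] {B : Blk D C} {ι : Type*} [Fintype ι] {R : Prop}
  {X T : Type*} [Group X] [Group T] (M : Mod B ι R X T)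

/-- An invariant description of the reflections. -/
def Refl (g : T) : Prop :=
  (∃ w : T, w ^ orderOf B.io = 1 ∧ ∀ a ∈ M.Ab, ⁅a, g⁆ ∈ zpowers w) ∧
    ∃ a ∈ M.Ab, ⁅a, g⁆ ≠ 1 ∧ (Two ι R → ⁅a, g⁆ ∈ center T)

/-- The reflections in block `k`. -/
def Tk (k : ι) (g : T) : Prop := ∃ x, M.φ x = g ∧ M.π x = 1 ∧ ∀ j, M.c x j ∉ B.Y ↔ j = k

theorem Refl.map {M : Mod B ι R X T} (big : (∃ i j : ι, i ≠ j) ∨ (R ∧ Nonempty ι)) (α : MulAut T)
    {g : T} (h : M.Refl g) : M.Refl (α g) := by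
  obtain ⟨⟨w, h1, h2⟩, a, ha, h3, h4⟩ := h
  refine ⟨⟨α w, by rw [← map_pow, h1, map_one], fun b hb => ?_⟩, α a, M.map_mem_Ab big α ha,
    ?_, fun h => ?_⟩
  · obtain ⟨n, hn⟩ := h2 _ (M.map_mem_Ab big α⁻¹ hb)
    refine ⟨n, ?_⟩
    dsimp only at hn ⊢
    rw [← map_zpow, hn, map_commutatorElement, MulAut.apply_inv_self]
  · rwa [← map_commutatorElement, Ne, map_eq_one_iff α α.injective]
  · rw [← map_commutatorElement, mem_center_iff]
    intro k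
    obtain ⟨k, rfl⟩ := α.surjective k
    rw [← map_mul, ← map_mul, mem_center_iff.1 (h4 h) k]

theorem mem_A_single {x : X} {i : ι} (h1 : M.π x = 1) (h2 : M.c x i ∈ B.Y)
    (h3 : ∀ j, j ≠ i → M.c x j = 1) : M.φ x ∈ M.Ab :=
  M.mem_Ab.2 ⟨h1, fun j => by
    by_cases hj : j = i
    · rw [hj]; exact h2
    · rw [h3 j hj]; exact one_mem _⟩

theorem mem_A_pair {x : X} {i k : ι} (h1 : M.π x = 1) (h2 : M.c x i ∈ B.Y) (h2' : M.c x k ∈ B.Y)
    (h3 : ∀ j, j ≠ i → j ≠ k → M.c x j = 1) : M.φ x ∈ M.Ab :=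
  M.mem_Ab.2 ⟨h1, fun j => by
    by_cases hj : j = i
    · rw [hj]; exact h2
    · by_cases hk : j = k
      · rw [hk]; exact h2'
      · rw [h3 j hj hk]; exact one_mem _⟩

theorem e_single {x : X} {i : ι} (h2 : B.δ (M.c x i) = 1) (h3 : ∀ j, j ≠ i → M.c x j = 1) :
    M.e x = 1 := M.e_eq_one fun j => by
  by_cases hj : j = i
  · rw [hj]; exact h2
  · rw [h3 j hj, map_one]

theorem exY (big : (∃ i j : ι, i ≠ j) ∨ (R ∧ Nonempty ι)) (i : ι) {q : D} (hq : q ∈ B.Y) :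
    ∃ x, M.π x = 1 ∧ (∀ j, M.c x j ∈ B.Y) ∧ M.c x i = q := by
  by_cases r : R
  · obtain ⟨x, h1, h2, h3⟩ := M.ex1 i q (fun h => absurd r h)
    exact ⟨x, h1, (M.mem_Ab.1 (M.mem_A_single h1 (h2 ▸ hq) h3)).2, h2⟩
  obtain ⟨k, hk⟩ : ∃ k, i ≠ k := by
    obtain ⟨a, b, hab⟩ := big.resolve_right (fun h => r h.1)
    by_cases ha : i = a
    · exact ⟨b, ha ▸ hab⟩
    · exact ⟨a, ha⟩
  obtain ⟨x, h1, h2, h3, h4⟩ := M.ex2 hk q q⁻¹ (by simp)
  exact ⟨x, h1, (M.mem_Ab.1 (M.mem_A_pair h1 (h2 ▸ hq) (h3 ▸ inv_mem hq) h4)).2, h2⟩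

/-- Commutators of the torus with a reflection. -/
theorem comm_mem {k : ι} {g : T} (hg : M.Tk k g) {h : X} (h1 : M.π h = 1) (h2 : M.c h k = B.io)
    (h3 : ∀ j, j ≠ k → M.c h j = 1) {a : T} (ha : a ∈ M.Ab) : ⁅a, g⁆ ∈ zpowers (M.φ h) := by
  obtain ⟨x, rfl, hx, hk⟩ := hg
  obtain ⟨a, ha, rfl⟩ := ha
  obtain ⟨n, hn⟩ := B.cyc _ (ha.2 k)
  change B.io ^ n = _ at hn
  refine ⟨n, ?_⟩
  dsimp only
  rw [← map_zpow, ← map_commutatorElement]
  refine M.φ_ext (by simp [h1]) (M.π_comm ha.1 x) 1 (fun j => ?_) (fun _ => ?_)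
  · rw [M.c_zpow h1, M.c_comm' ha.1 hx, map_one, mul_one]
    by_cases hj : j = k
    · rw [hj, h2, hn, B.conj_out (inv_mem (ha.2 k)) ((hk k).2 rfl)]
    · rw [h3 j hj, B.conj_in (inv_mem (ha.2 j)) (by_contra fun h => hj ((hk j).1 h))]; simp
  · rw [map_zpow, M.e_single (by rw [h2]; exact B.δ_io) h3, M.e_comm]; simp

theorem Tk.refl {M : Mod B ι R X T} (hD : IsPGroup 2 D)
    (big : (∃ i j : ι, i ≠ j) ∨ (R ∧ Nonempty ι)) {k : ι} {g : T} (hg : M.Tk k g) : M.Refl g := by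
  obtain ⟨h, h1, h2, h3⟩ := M.ex1 k B.io (fun _ => B.δ_io)
  refine ⟨⟨M.φ h, ?_, fun a ha => M.comm_mem hg h1 h2 h3 ha⟩, ?_⟩
  · rw [← map_pow, M.ker]
    refine ⟨by simp [h1], 1, fun j => ?_, fun _ => ?_⟩
    · rw [M.c_pow h1, map_one]
      by_cases hj : j = k
      · rw [hj, h2, pow_orderOf_eq_one]
      · rw [h3 j hj, one_pow]
    · rw [map_pow, M.e_single (by rw [h2]; exact B.δ_io) h3, one_pow]
  obtain ⟨x, rfl, hx, hk⟩ := hg
  obtain ⟨n, μ, m1, m2, m3⟩ := B.exists_inv hD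
  obtain ⟨a, a1, a2, a3⟩ := M.exY big k (pow_mem B.y_mem n)
  have uk : M.c ⁅a, x⁆ k = B.s μ := by
    rw [M.c_comm' a1 hx, B.conj_out (inv_mem (a2 k)) ((hk k).2 rfl), a3, B.eta_pow, m3]
  have uj : ∀ j, j ≠ k → M.c ⁅a, x⁆ j = 1 := fun j hj => by
    rw [M.c_comm' a1 hx, B.conj_in (inv_mem (a2 j)) (by_contra fun h => hj ((hk j).1 h)),
      mul_inv_cancel]
  refine ⟨M.φ a, M.mem_Ab.2 ⟨a1, a2⟩, fun h => ?_, fun h => ?_⟩
  · rw [← map_commutatorElement] at h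
    have := M.one_of_single big uj (M.e_comm _ _) h
    rw [uk] at this
    exact m2 (B.s_inj (by rw [this, map_one]))
  · rw [mem_center_iff]
    intro w
    obtain ⟨w, rfl⟩ := M.φ_surj w
    rw [eq_comm, ← commutatorElement_eq_one_iff_mul_comm, ← map_commutatorElement,
      ← map_commutatorElement, M.ker]
    refine ⟨M.π_comm (M.π_comm a1 x) w, ?_⟩
    by_cases hw : M.π w k = k
    · refine ⟨1, fun j => ?_, fun r => absurd r h.1⟩
      rw [M.c_comm (M.π_comm a1 x), map_one]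
      by_cases hj : j = k
      · rw [hj, show (M.π w)⁻¹ k = k by rw [Perm.inv_eq_iff_eq, hw], uk, ← map_inv, B.s_conj,
          map_inv, mul_inv_cancel]
      · rw [uj j hj, uj _ (fun e => hj (by rw [Perm.inv_eq_iff_eq, hw] at e; exact e))]; group
    · refine ⟨μ, fun j => ?_, fun r => absurd r h.1⟩
      rw [M.c_comm (M.π_comm a1 x)]
      by_cases hj : j = k
      · rw [hj, uk, uj _ (fun e => hw (by rw [Perm.inv_eq_iff_eq] at e; exact e.symm))]; group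
      · have e : (M.π w)⁻¹ j = k := by
          rw [Perm.inv_eq_iff_eq]
          exact ((h.2 k j (M.π w k) (Ne.symm hj)).resolve_left hw).symm
        rw [uj j hj, e, uk, ← map_inv, B.s_conj, one_mul, inv_eq_of_mul_eq_one_right m1]

theorem cmp {u v : X} (hv : M.π v = 1) (h : M.φ u ∈ zpowers (M.φ v)) :
    ∃ (n : ℤ) (l : C), ∀ j, M.c u j = M.c v j ^ n * B.s l := by
  obtain ⟨n, hn⟩ := h
  dsimp only at hn
  rw [← map_zpow] at hn
  obtain ⟨l, h1, -⟩ := M.φ_eq (by simp [hv]) hn.symm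
  exact ⟨n, l, fun j => by rw [h1, M.c_zpow hv]⟩

section R

variable [Finite T] (hT : IsPGroup 2 T) {x : X} {w : T}
  (hw : ∀ a ∈ M.Ab, ⁅a, M.φ x⁆ ∈ zpowers w)
include hT hw

theorem cmp2 {a b : X} (ha : M.φ a ∈ M.Ab) (hb : M.φ b ∈ M.Ab) :
    (∃ (n : ℤ) (l : C), ∀ j, M.c ⁅a, x⁆ j = M.c ⁅b, x⁆ j ^ n * B.s l) ∨
      ∃ (n : ℤ) (l : C), ∀ j, M.c ⁅b, x⁆ j = M.c ⁅a, x⁆ j ^ n * B.s l := by
  have := zp_total hT (hw _ ha) (hw _ hb)
  rw [← map_commutatorElement, ← map_commutatorElement] at this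
  exact this.imp (M.cmp (M.π_comm (M.mem_Ab.1 hb).1 x)) (M.cmp (M.π_comm (M.mem_Ab.1 ha).1 x))

theorem r0 (hx : M.π x = 1) {i j : ι} (hi : M.c x i ∉ B.Y) (hj : M.c x j ∉ B.Y) : i = j := by
  by_contra hij
  have hy := inv_mem B.y_mem
  obtain ⟨a, a1, a2, a3, a4⟩ := M.ex2 hij B.y B.y⁻¹ (by simp)
  obtain ⟨b, b1, b2, b3, b4⟩ := M.ex2 hij B.y (B.t * B.y⁻¹ * B.t⁻¹) (by simp)
  have ui : M.c ⁅a, x⁆ i = B.io := by rw [M.c_comm' a1 hx, a2, B.conj_out hy hi]; rfl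
  have vi : M.c ⁅b, x⁆ i = B.io := by rw [M.c_comm' b1 hx, b2, B.conj_out hy hi]; rfl
  have uj : M.c ⁅a, x⁆ j = B.io⁻¹ := by
    rw [M.c_comm' a1 hx, a3, inv_inv, B.conj_out B.y_mem hj, Blk.io,
      B.Y_comm _ hy _ (B.bar_mem B.y_mem)]
    group
  have vj : M.c ⁅b, x⁆ j = B.io := by
    have := B.conj_in B.y_mem (B.mul_mem_of_out B.t_not B.t_not)
    rw [M.c_comm' b1 hx, b3, B.conj_out (inv_mem (B.bar_mem hy)) hj, Blk.io,
      B.Y_comm _ B.y_mem _ (B.bar_mem hy)]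
    nth_rewrite 4 [← this]
    group
  apply B.io_sq
  rcases M.cmp2 hT hw (M.mem_A_pair a1 (a2 ▸ B.y_mem) (a3 ▸ hy) a4)
    (M.mem_A_pair b1 (b2 ▸ B.y_mem) (b3 ▸ B.bar_mem hy) b4) with ⟨n, l, h⟩ | ⟨n, l, h⟩
  · have h1 := h i
    have h2 := h j
    rw [ui, vi] at h1
    rw [uj, vj, ← h1] at h2
    nth_rewrite 1 [← h2]
    rw [inv_mul_cancel]
  · have h1 := h i
    have h2 := h j
    rw [ui, vi] at h1
    rw [uj, vj] at h2
    have h3 : B.t * B.io * B.t⁻¹ = B.io := by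
      nth_rewrite 1 [h1]
      nth_rewrite 2 [h2]
      rw [inv_zpow, ← B.bar_zpow, ← B.s_conj l B.t]
      nth_rewrite 1 [B.s_conj]
      group
    rw [B.bar_io] at h3
    nth_rewrite 1 [← h3]
    rw [inv_mul_cancel]

theorem r1 {i k : ι} (hi : M.π x i ≠ i) (hki : k ≠ i) (hkj : k ≠ M.π x i) : M.π x k = k := by
  by_contra hk
  obtain ⟨a, a1, a2, a3⟩ := M.ex1 i B.io (fun _ => B.δ_io)
  obtain ⟨b, b1, b2, b3⟩ := M.ex1 k B.io (fun _ => B.δ_io)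
  rcases M.cmp2 hT hw (M.mem_A_single a1 (a2 ▸ B.io_mem) a3)
    (M.mem_A_single b1 (b2 ▸ B.io_mem) b3) with ⟨n, l, h⟩ | ⟨n, l, h⟩
  · have h1 := h (M.π x i)
    rw [M.c_comm a1, M.c_comm b1, Perm.coe_inv, symm_apply_apply, a2, a3 _ hi, b3 _ hkj.symm,
      b3 _ hki.symm] at h1
    refine B.conj_io_ne (M.c x (M.π x i)) l ?_
    simpa using h1
  · have h1 := h k
    rw [M.c_comm a1, M.c_comm b1, b2, a3 _ hki,
      a3 _ (fun e => hkj (by rwa [Perm.inv_eq_iff_eq] at e)),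
      b3 _ (fun e => hk (by rw [Perm.inv_eq_iff_eq] at e; exact e.symm))] at h1
    refine B.io_ne l ?_
    simpa using h1

omit hT in
theorem r2 [Finite D] (hD : IsPGroup 2 D) (hw1 : w ^ orderOf B.io = 1) {i : ι} (hi : M.π x i ≠ i)
    (hs : R ∨ ∃ k, k ≠ i ∧ k ≠ M.π x i ∧ M.π x k = k) : False := by
  have key : ∃ F : B.Y → X, (∀ a, M.φ (F a) ∈ M.Ab ∧ M.c (F a) i = a ∧ M.c (F a) (M.π x i) = 1) ∧
      (R ∨ ∃ k, M.π x k = k ∧ ∀ a, M.c (F a) k = (a : D)⁻¹) := by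
    rcases hs with r | ⟨k, h1, h2, h3⟩
    · choose F f1 f2 f3 using fun a : B.Y => M.ex1 i (a : D) (fun h => absurd r h)
      exact ⟨F, fun a => ⟨M.mem_A_single (f1 a) (by rw [f2]; exact a.2) (f3 a), f2 a, f3 a _ hi⟩,
        Or.inl r⟩
    · choose F f1 f2 f3 f4 using fun a : B.Y => M.ex2 h1.symm (a : D) (a : D)⁻¹ (by simp)
      exact ⟨F, fun a => ⟨M.mem_A_pair (f1 a) (by rw [f2]; exact a.2)
        (by rw [f3]; exact inv_mem a.2) (f4 a), f2 a, f4 a _ hi h2.symm⟩, Or.inr ⟨k, h3, f3⟩⟩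
  obtain ⟨F, f1, f2⟩ := key
  have hinj : Function.Injective (fun a : B.Y => (⟨_, hw _ (f1 a).1⟩ : zpowers w)) := by
    intro a b hab
    have h0 := congrArg Subtype.val hab
    dsimp only at h0
    rw [← map_commutatorElement, ← map_commutatorElement] at h0
    have a1 := (M.mem_Ab.1 (f1 a).1).1
    have b1 := (M.mem_Ab.1 (f1 b).1).1
    obtain ⟨l, h1, h2⟩ := M.φ_eq (M.π_comm b1 x) h0
    have h3 := h1 (M.π x i)
    rw [M.c_comm a1, M.c_comm b1, Perm.coe_inv, symm_apply_apply, (f1 a).2.1, (f1 b).2.1,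
      (f1 a).2.2, (f1 b).2.2, one_mul, one_mul, ← B.s_conj l (M.c x (M.π x i))] at h3
    have h4 : (a : D)⁻¹ = (b : D)⁻¹ * B.s l := by
      have : (a : D)⁻¹ = (M.c x (M.π x i))⁻¹ * (M.c x (M.π x i) * (a : D)⁻¹ *
        (M.c x (M.π x i))⁻¹) * M.c x (M.π x i) := by group
      rw [this, h3]; group
    have h5 : l = 1 := by
      rcases f2 with r | ⟨k, hk, f2⟩
      · have := h2 r
        rw [M.e_comm, M.e_comm, one_mul] at this
        exact this.symm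
      · have h6 := h1 k
        rw [M.c_comm a1, M.c_comm b1, show (M.π x)⁻¹ k = k by rw [Perm.inv_eq_iff_eq, hk], f2, f2,
          h4] at h6
        have h7 : (b : D)⁻¹ * B.s l * (M.c x k * ((b : D)⁻¹ * B.s l)⁻¹ * (M.c x k)⁻¹) =
            (b : D)⁻¹ * (M.c x k * (b : D)⁻¹⁻¹ * (M.c x k)⁻¹) := by
          nth_rewrite 1 [← B.s_conj l (M.c x k)]
          group
        rw [h7, left_eq_mul] at h6
        exact B.s_inj (by rw [h6, map_one])
    rw [h5, map_one, mul_one, inv_inj] at h4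
    exact Subtype.ext h4
  have h1 := Nat.card_le_card_of_injective _ hinj
  rw [Nat.card_zpowers] at h1
  have h2 := Nat.le_of_dvd (orderOf_pos _) (orderOf_dvd_of_pow_eq_one hw1)
  have h3 := B.card_lt hD
  omega

theorem r3 (h2 : Two ι R) {i : ι} (hi : M.π x i ≠ i) {a : T} (ha : a ∈ M.Ab)
    (hz : ⁅a, M.φ x⁆ ∈ center T) : ⁅a, M.φ x⁆ = 1 := by
  obtain ⟨a, ha', rfl⟩ := ha
  have ha : M.φ a ∈ M.Ab := ⟨a, ha', rfl⟩
  have hu := M.π_comm ha'.1 x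
  have hY : ∀ j, M.c ⁅a, x⁆ j ∈ B.Y := fun j => by
    rw [M.c_comm ha'.1]; exact mul_mem (ha'.2 j) (B.conj_mem (inv_mem (ha'.2 _)) _)
  obtain ⟨μ, hμ⟩ : ∃ μ, M.c ⁅a, x⁆ i = B.s μ := by
    obtain ⟨g, g1, g2, g3⟩ := M.ex1 i B.t (fun _ => B.δ_t)
    have := M.one_of_single (Or.inl ⟨_, _, hi⟩) (x := ⁅⁅a, x⁆, g⁆) (i := i)
      (fun j hj => by rw [M.c_comm' hu g1, g3 j hj]; group) (M.e_comm _ _) (by
        rw [map_commutatorElement, map_commutatorElement, commutatorElement_eq_one_iff_mul_comm]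
        exact (mem_center_iff.1 hz _).symm)
    rw [M.c_comm' hu g1, g2] at this
    exact B.eta_eq_one (hY i) this
  obtain ⟨b, b1, b2, b3⟩ := M.ex1 i B.io (fun _ => B.δ_io)
  have vi : M.c ⁅b, x⁆ i = B.io := by
    rw [M.c_comm b1, b2, b3 _ (fun e => hi (by rw [Perm.inv_eq_iff_eq] at e; exact e.symm))]
    group
  have vj : M.c ⁅b, x⁆ (M.π x i) = (M.c x (M.π x i) * B.io * (M.c x (M.π x i))⁻¹)⁻¹ := by
    rw [M.c_comm b1, Perm.coe_inv, symm_apply_apply, b2, b3 _ hi]; group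
  rcases M.cmp2 hT hw ha (M.mem_A_single b1 (b2 ▸ B.io_mem) b3) with ⟨n, l, h⟩ | ⟨n, l, h⟩
  · have h3 := h i
    have h4 := h (M.π x i)
    rw [hμ, vi] at h3
    have h5 := B.zpow_inv_of_s (n := n) (c := μ * l⁻¹) (by rw [map_mul, h3, map_inv]; group)
    rw [← map_commutatorElement, M.ker]
    refine ⟨hu, μ, fun j => ?_, fun r => absurd r h2.1⟩
    rcases h2.2 i (M.π x i) j hi.symm with rfl | rfl
    · exact hμ
    · rw [h4, vj, h3]
      rcases B.conj_io (M.c x (M.π x i)) with e | e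
      · rw [e, inv_zpow, h5]
      · rw [e, inv_inv]
  · have h3 := h i
    rw [hμ, vi, ← map_zpow, ← map_mul] at h3
    exact absurd h3 (B.io_ne _)

end R

theorem Refl.tk {M : Mod B ι R X T} [Finite D] [Finite T] (hD : IsPGroup 2 D) (hT : IsPGroup 2 T)
    {g : T} (h : M.Refl g) : ∃ k, M.Tk k g := by
  obtain ⟨x, rfl⟩ := M.φ_surj g
  obtain ⟨⟨w, hw1, hw⟩, a, ha, h1, h2⟩ := h
  have hx : M.π x = 1 := by
    ext i
    by_contra hi
    change M.π x i ≠ i at hi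
    by_cases r : R
    · exact M.r2 hw hD hw1 hi (Or.inl r)
    by_cases hk : ∃ k, k ≠ i ∧ k ≠ M.π x i
    · obtain ⟨k, hki, hkj⟩ := hk
      exact M.r2 hw hD hw1 hi (Or.inr ⟨k, hki, hkj, M.r1 hT hw hi hki hkj⟩)
    have h3 : Two ι R := by
      refine ⟨r, fun a b c hab => ?_⟩
      have hall : ∀ k, k = i ∨ k = M.π x i := fun k => by
        by_contra h
        rw [not_or] at h
        exact hk ⟨k, h⟩
      rcases hall a with ha | ha <;> rcases hall b with hb | hb <;> rcases hall c with hc | hc <;>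
        simp_all
    exact h1 (M.r3 hT hw h3 hi ha (h2 h3))
  obtain ⟨k, hk⟩ : ∃ k, M.c x k ∉ B.Y := by
    by_contra h
    push Not at h
    exact h1 (commutatorElement_eq_one_iff_mul_comm.2 (M.Ab_comm ha (M.mem_Ab.2 ⟨hx, h⟩)))
  exact ⟨k, x, rfl, hx, fun j => ⟨fun hj => M.r0 hT hw hx hj hk, fun e => e ▸ hk⟩⟩

end Mod

end Cfsg.Lib.Kasp
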