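import Cfsg.Agent.Kasp.Defs
import Cfsg.Agent.Trans.SylowIn

/-! A Sylow 2-subgroup of `GL₂(q)`, `q` odd, as `Blk` data. -/

set_option autoImplicit false

namespace Cfsg.Lib.Kasp

open Subgroup Cfsg.Lib.Trans

universe u

variable {F : Type u} [Field F] {G : Type*} [Group G]

/-- The matrix `α + β j`. -/
def mm (α β : F) : Matrix (Fin 2) (Fin 2) F := !![α, -β; β, α]

theorem mm_mul (α β γ δ : F) : mm α β * mm γ δ = mm (α * γ - β * δ) (α * δ + β * γ) := by
  ext i j; fin_cases i <;> fin_cases j <;> simp [mm, Matrix.mul_apply, Fin.sum_univ_two] <;> ring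

theorem mm_inj {α β γ δ : F} : mm α β = mm γ δ ↔ α = γ ∧ β = δ :=
  ⟨fun h => ⟨congrFun (congrFun h 0) 0, congrFun (congrFun h 1) 0⟩, fun ⟨a, b⟩ => a ▸ b ▸ rfl⟩

theorem mm_one : mm (1 : F) 0 = 1 := by
  ext i j; fin_cases i <;> fin_cases j <;> simp [mm]

theorem det_mm (α β : F) : (mm α β).det = α ^ 2 + β ^ 2 := by
  simp [mm, Matrix.det_fin_two]; ring

theorem eq_mm {M : Matrix (Fin 2) (Fin 2) F} (h : M * mm 0 1 = mm 0 1 * M) :
    M = mm (M 0 0) (M 1 0) := by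
  have h1 := congrFun (congrFun h 0) 0
  have h2 := congrFun (congrFun h 1) 0
  simp [mm, Matrix.mul_apply, Fin.sum_univ_two] at h1 h2
  ext i j; fin_cases i <;> fin_cases j <;> simp [mm, h1, h2]

theorem mm_comm_of (l : F) (M : Matrix (Fin 2) (Fin 2) F) : mm l 0 * M = M * mm l 0 := by
  ext i j; fin_cases i <;> fin_cases j <;> simp [mm, Matrix.mul_apply, Fin.sum_univ_two, mul_comm]

/-- The elements centralising or inverting `c`. -/
def ExtC (c : G) : Subgroup G where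
  carrier := {g | g * c * g⁻¹ = c ∨ g * c * g⁻¹ = c⁻¹}
  one_mem' := Or.inl (by simp)
  mul_mem' := by
    rintro g k hg hk
    have e : g * k * c * (g * k)⁻¹ = g * (k * c * k⁻¹) * g⁻¹ := by group
    rcases hg with hg | hg <;> rcases hk with hk | hk
    · left; rw [e, hk, hg]
    · right; rw [e, hk, ← conj_inv, hg]
    · right; rw [e, hk, hg]
    · left; rw [e, hk, ← conj_inv, hg, inv_inv]
  inv_mem' := by
    rintro g (hg | hg)
    · left; conv_lhs => rw [← hg]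
      group
    · right
      have : c = g * c⁻¹ * g⁻¹ := by rw [← conj_inv, hg, inv_inv]
      conv_lhs => rw [this]
      group

/-- A matrix model of `GL₂(F)` with the elements `j` and `t`. -/
structure Gl (ρ : G →* Matrix (Fin 2) (Fin 2) F) (j t : G) : Prop where
  two : (2 : F) ≠ 0
  inj : Function.Injective ρ
  surj : ∀ M : Matrix (Fin 2) (Fin 2) F, M.det ≠ 0 → ∃ g, ρ g = M
  hj : ρ j = mm 0 1
  ht : ∀ α β, ρ t * mm α β = mm α (-β) * ρ t
  t2 : ρ t * ρ t = mm (-1) 0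

/-- The 2-elements of the centraliser of `j`. -/
def Gl.Y {ρ : G →* Matrix (Fin 2) (Fin 2) F} {j t : G} (h : Gl ρ j t) : Subgroup G where
  carrier := {a | (∃ α β, ρ a = mm α β) ∧ ∃ k : ℕ, a ^ 2 ^ k = 1}
  one_mem' := ⟨⟨1, 0, by rw [map_one, mm_one]⟩, 0, by simp⟩
  mul_mem' := by
    rintro a b ⟨⟨α, β, ha⟩, m, hm⟩ ⟨⟨γ, δ, hb⟩, n, hn⟩
    have hc : Commute a b := h.inj (by
      rw [map_mul, map_mul, ha, hb, mm_mul, mm_mul, mm_inj]; constructor <;> ring)
    exact ⟨⟨_, _, by rw [map_mul, ha, hb, mm_mul]⟩, m + n, by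
      rw [hc.mul_pow, pow_add, pow_mul, hm, one_pow, one_mul, mul_comm, pow_mul, hn, one_pow]⟩
  inv_mem' := by
    rintro a ⟨⟨α, β, ha⟩, m, hm⟩
    have hc : Commute a j := h.inj (by
      rw [map_mul, map_mul, ha, h.hj, mm_mul, mm_mul, mm_inj]; constructor <;> ring)
    refine ⟨⟨_, _, eq_mm ?_⟩, m, by rw [inv_pow, hm, inv_one]⟩
    rw [← h.hj, ← map_mul, ← map_mul, hc.inv_left.eq]

namespace Gl

variable {ρ : G →* Matrix (Fin 2) (Fin 2) F} {j t a b : G} {α β : F} (h : Gl ρ j t)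

theorem comm (ha : a ∈ h.Y) (hb : b ∈ h.Y) : Commute a b := by
  obtain ⟨⟨α, β, ha⟩, -⟩ := ha
  obtain ⟨⟨γ, δ, hb⟩, -⟩ := hb
  exact h.inj (by rw [map_mul, map_mul, ha, hb, mm_mul, mm_mul, mm_inj]; constructor <;> ring)

include h in
theorem conj (ha : ρ a = mm α β) : ρ (t * a * t⁻¹) = mm α (-β) := by
  rw [map_mul, map_mul, ha, h.ht, mul_assoc, ← map_mul, mul_inv_cancel, map_one, mul_one]

theorem conj_mem (ha : a ∈ h.Y) : t * a * t⁻¹ ∈ h.Y := by
  obtain ⟨⟨α, β, e⟩, k, hk⟩ := ha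
  exact ⟨⟨_, _, h.conj e⟩, k, by rw [conj_pow, hk, mul_one, mul_inv_cancel]⟩

include h in
theorem four (e : ρ a * ρ a = mm (-1) 0) : a ^ 2 ^ 2 = 1 := h.inj (by
  rw [show 2 ^ 2 = 2 * 2 from rfl, pow_mul, pow_two, pow_two, map_mul, map_mul, e, mm_mul, map_one,
    ← mm_one, mm_inj]; constructor <;> ring)

include h in
theorem j2 : ρ j * ρ j = mm (-1) 0 := by rw [h.hj, mm_mul, mm_inj]; constructor <;> ring

theorem j_mem : j ∈ h.Y := ⟨⟨_, _, h.hj⟩, 2, h.four h.j2⟩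

include h in
theorem j_inv : ρ j⁻¹ = mm 0 (-1) := by
  have : ρ j * mm 0 (-1) = 1 := by rw [h.hj, mm_mul, ← mm_one, mm_inj]; constructor <;> ring
  rw [← mul_one (ρ j⁻¹), ← this, ← mul_assoc, ← map_mul, inv_mul_cancel, map_one, one_mul]

include h in
theorem tj : t * j * t⁻¹ = j⁻¹ := h.inj (by rw [h.conj h.hj, h.j_inv])

include h in
theorem j_ne : j⁻¹ ≠ j := fun e => by
  have := h.j_inv
  rw [e, h.hj, mm_inj] at this
  exact h.two (by linear_combination this.2)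

theorem mem_Y (h2 : ∃ k : ℕ, a ^ 2 ^ k = 1) (e : a * j * a⁻¹ = j) : a ∈ h.Y :=
  ⟨⟨_, _, eq_mm (by rw [← h.hj, ← map_mul, ← map_mul, mul_inv_eq_iff_eq_mul.1 e])⟩, h2⟩

theorem psi_pow (ha : a ∈ h.Y) (n : ℕ) :
    (a * (t * a⁻¹ * t⁻¹)) ^ n = a ^ n * (t * (a ^ n)⁻¹ * t⁻¹) := by
  rw [(h.comm ha (h.conj_mem (inv_mem ha))).mul_pow, conj_pow, inv_pow]

include h in
theorem fix (ha : ρ a = mm α β) (e : a * (t * a⁻¹ * t⁻¹) = 1) : β = 0 := by
  rw [← conj_inv, mul_inv_eq_one] at e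
  have := h.conj ha
  rw [← e, ha, mm_inj] at this
  exact (mul_eq_zero.1 (show 2 * β = 0 by linear_combination this.2)).resolve_left h.two

variable [Finite G]

theorem exists_y0 : ∃ y ∈ h.Y, (y * (t * y⁻¹ * t⁻¹)) ^ 2 ≠ 1 := by
  obtain ⟨a, ha⟩ := h.surj (mm 1 1) (by rw [det_mm]; convert h.two using 1; ring)
  obtain ⟨k, m, ⟨n, rfl⟩, e⟩ := Nat.exists_eq_two_pow_mul_odd (orderOf_pos a).ne'
  have h2 : ∀ n : ℕ, ∃ β, β ≠ 0 ∧ ρ ((a ^ (2 * n + 1)) ^ 2) = mm 0 β := fun n => by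
    induction n with
    | zero => exact ⟨2, h.two, by
        rw [pow_two, map_mul, mul_zero, zero_add, pow_one, ha, mm_mul, mm_inj]; constructor <;> ring⟩
    | succ n ih =>
      obtain ⟨β, hβ, e⟩ := ih
      refine ⟨-(2 * 2 * β), neg_ne_zero.2 (mul_ne_zero (mul_ne_zero h.two h.two) hβ), ?_⟩
      rw [show (a ^ (2 * (n + 1) + 1)) ^ 2 = (a ^ (2 * n + 1)) ^ 2 * (a * a * (a * a)) by group,
        map_mul, e]
      simp only [map_mul, ha, mm_mul, mm_inj]; constructor <;> ring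
  have hy : a ^ (2 * n + 1) ∈ h.Y := h.mem_Y ⟨k, by rw [← pow_mul, mul_comm, ← e, pow_orderOf_eq_one]⟩
    (mul_inv_eq_iff_eq_mul.2 (Commute.pow_left (h.inj (by
      rw [map_mul, map_mul, ha, h.hj, mm_mul, mm_mul, mm_inj]; constructor <;> ring)) _).eq)
  obtain ⟨β, hβ, e'⟩ := h2 n
  exact ⟨_, hy, fun e => hβ (h.fix e' (h.psi_pow hy 2 ▸ e))⟩

theorem exists_sylow : ∃ D : Sylow 2 G, h.Y ≤ D ∧ t ∈ (D : Subgroup G) ∧
    ∀ d ∈ (D : Subgroup G), d ∈ h.Y ∨ d * t⁻¹ ∈ h.Y := by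
  have hY : IsPGroup 2 h.Y := fun ⟨a, ha⟩ => ha.2.imp fun k e => Subtype.ext e
  have ht : IsPGroup 2 (zpowers t) := fun ⟨a, ha⟩ => ⟨2, Subtype.ext (by
    obtain ⟨k, rfl⟩ := mem_zpowers_iff.1 ha
    change (t ^ k) ^ 2 ^ 2 = 1
    rw [← zpow_natCast, ← zpow_mul, mul_comm, zpow_mul, zpow_natCast, h.four h.t2, one_zpow])⟩
  obtain ⟨D, hD⟩ := (IsPGroup.to_sup_of_normal_left' hY ht (zpowers_le.2
    (mem_normalizer_of_cj_le (cj_le_iff.2 fun _ => h.conj_mem)))).exists_le_sylow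
  have tD : t ∈ (D : Subgroup G) := hD (mem_sup_right (mem_zpowers t))
  have YD : h.Y ≤ D := le_sup_left.trans hD
  have tw : ∀ d ∈ (D : Subgroup G), ∃ k : ℕ, d ^ 2 ^ k = 1 := fun d hd =>
    (D.isPGroup' ⟨d, hd⟩).imp fun k e => congrArg Subtype.val e
  have cov : ∀ d ∈ (D : Subgroup G) ⊓ ExtC j, d ∈ h.Y ∨ d * t⁻¹ ∈ h.Y := fun d ⟨hd, e⟩ =>
    e.imp (h.mem_Y (tw d hd)) fun e => h.mem_Y (tw _ (mul_mem hd (inv_mem tD))) (by
      conv_lhs => rw [← inv_inv j, ← h.tj]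
      rw [← inv_inj, ← e]; group)
  have YE : h.Y ≤ (D : Subgroup G) ⊓ ExtC j := le_inf YD fun a ha =>
    Or.inl (by rw [(h.comm ha h.j_mem).eq, mul_inv_cancel_right])
  refine ⟨D, YD, tD, fun d hd => cov d ⟨hd, by_contra fun hn => ?_⟩⟩
  obtain ⟨g, ⟨hg, hN⟩, hg'⟩ := SetLike.exists_of_lt (lt_inf_normalizer D.isPGroup'
    (lt_of_le_of_ne (inf_le_left (b := ExtC j)) fun e => hn (e.ge hd).2))
  refine hg' ⟨hg, ?_⟩
  obtain ⟨y, hy, hy2⟩ := h.exists_y0
  have hx := mem_normalizer_conj hN (YE h.j_mem)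
  have c1 : g⁻¹ * y * g * (g⁻¹ * y * g) * j * (g⁻¹ * y * g * (g⁻¹ * y * g))⁻¹ = j := by
    have e : ∀ z : G, z * z * j * (z * z)⁻¹ = z * (z * j * z⁻¹) * z⁻¹ := fun z => by group
    rcases (mem_normalizer_conj' hN (YE hy)).2 with e' | e'
    · rw [e, e', e']
    · rw [e, e', ← conj_inv, e', inv_inv]
  have c2 : Commute (y ^ 2) (g * j * g⁻¹) := by
    change _ = _
    conv_rhs => rw [← c1]
    rw [pow_two]; group
  rcases cov _ hx with ⟨⟨α, β, e⟩, -⟩ | e
  · have e2 : ρ (g * j * g⁻¹) * ρ (g * j * g⁻¹) = mm (-1) 0 := by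
      rw [← map_mul, conj_mul, map_mul, map_mul, map_mul, h.j2, ← mm_comm_of, mul_assoc,
        ← map_mul, mul_inv_cancel, map_one, mul_one]
    rw [e, mm_mul, mm_inj] at e2
    have hβ : β ≠ 0 := by
      rintro rfl
      have : Commute (g * j * g⁻¹) (g * t * g⁻¹) := h.inj (by
        rw [map_mul, map_mul (x := g * t * g⁻¹), e, mm_comm_of])
      rw [Commute.conj_iff] at this
      exact h.j_ne (by rw [← h.tj, ← this.eq, mul_inv_cancel_right])
    have hα : α = 0 := (mul_eq_zero.1 ((mul_eq_zero.1 (show 2 * (α * β) = 0 by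
      linear_combination e2.2)).resolve_left h.two)).resolve_right hβ
    subst hα
    rcases mul_self_eq_one_iff.1 (show β * β = 1 by linear_combination -e2.1) with rfl | rfl
    · exact Or.inl (h.inj (e.trans h.hj.symm))
    · exact Or.inr (h.inj (e.trans h.j_inv.symm))
  · have c3 : Commute (y ^ 2) t⁻¹ := by
      have := c2.inv_right.mul_right (h.comm (pow_mem hy 2) e)
      rwa [inv_mul_cancel_left] at this
    exact absurd (by rw [h.psi_pow hy, mul_assoc t, c3.inv_left.eq]; group) hy2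

theorem exists_gen : ∃ y ∈ h.Y, ∀ a ∈ h.Y,
    a * (t * a⁻¹ * t⁻¹) ∈ zpowers (y * (t * y⁻¹ * t⁻¹)) := by
  let R : Subgroup G :=
    { carrier := {x | ∃ a ∈ h.Y, x = a * (t * a⁻¹ * t⁻¹)}
      one_mem' := ⟨1, one_mem _, by simp⟩
      mul_mem' := by
        rintro _ _ ⟨a, ha, rfl⟩ ⟨b, hb, rfl⟩
        refine ⟨a * b, mul_mem ha hb, ?_⟩
        rw [mul_assoc a, ← mul_assoc (t * a⁻¹ * t⁻¹), ← (h.comm hb (h.conj_mem (inv_mem ha))).eq,
          mul_inv_rev, ← (h.comm (inv_mem ha) (inv_mem hb)).eq]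
        group
      inv_mem' := by
        rintro _ ⟨a, ha, rfl⟩
        refine ⟨a⁻¹, inv_mem ha, ?_⟩
        rw [inv_inv, (h.comm (inv_mem ha) (h.conj_mem ha)).eq]; group }
  have hR : ∀ x : R, ρ x = mm (ρ x 0 0) (ρ x 1 0) ∧ ρ x 0 0 ^ 2 + ρ x 1 0 ^ 2 = 1 := by
    rintro ⟨_, a, ha, rfl⟩
    obtain ⟨⟨α, β, e⟩, -⟩ := mul_mem ha (h.conj_mem (inv_mem ha))
    have e1 : ρ (a * (t * a⁻¹ * t⁻¹)) = mm (ρ (a * (t * a⁻¹ * t⁻¹)) 0 0)
      (ρ (a * (t * a⁻¹ * t⁻¹)) 1 0) := by rw [e]; rfl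
    refine ⟨e1, ?_⟩
    rw [← det_mm, ← e1]
    change (Matrix.detMonoidHom.comp ρ) _ = 1
    generalize Matrix.detMonoidHom.comp ρ = d
    rw [map_mul, map_mul, map_mul, mul_right_comm (d t), ← map_mul, ← map_mul, ← map_mul]
    simp
  obtain ⟨i, hi⟩ := IsAlgClosed.exists_eq_mul_self (-1 : AlgebraicClosure F)
  let f : R →* AlgebraicClosure F :=
    { toFun x := algebraMap F _ (ρ x 0 0) + i * algebraMap F _ (ρ x 1 0)
      map_one' := by simp
      map_mul' x y := by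
        have := (hR (x * y)).1
        rw [coe_mul, map_mul] at this
        conv_lhs at this => rw [(hR x).1, (hR y).1, mm_mul]
        rw [mm_inj] at this
        rw [coe_mul, map_mul, ← this.1, ← this.2]
        simp only [map_sub, map_add, map_mul]
        linear_combination (algebraMap F _ (ρ x 1 0) * algebraMap F _ (ρ y 1 0)) * hi }
  have hf : Function.Injective f := (injective_iff_map_eq_one f).2 fun x hx => by
    have h1 := congrArg (algebraMap F (AlgebraicClosure F)) (hR x).2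
    simp only [map_add, map_pow, map_one] at h1
    change algebraMap F _ (ρ x 0 0) + i * algebraMap F _ (ρ x 1 0) = 1 at hx
    have h2 : algebraMap F (AlgebraicClosure F) (2 * (ρ x 0 0 - 1)) = 0 := by
      simp only [map_sub, map_mul, map_one, map_ofNat]
      linear_combination h1 + (1 - algebraMap F _ (ρ x 0 0) + i * algebraMap F _ (ρ x 1 0)) * hx +
        algebraMap F _ (ρ x 1 0) ^ 2 * hi
    have h3 := sub_eq_zero.1 ((mul_eq_zero.1 ((map_eq_zero _).1 h2)).resolve_left h.two)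
    have h4 : ρ x 1 0 = 0 := pow_eq_zero_iff two_ne_zero |>.1 (by
      have := (hR x).2; rw [h3] at this; linear_combination this)
    exact Subtype.ext (h.inj (by rw [(hR x).1, h3, h4, mm_one, coe_one, map_one]))
  have := isCyclic_of_injective_ringHom f hf
  obtain ⟨⟨_, y, hy, rfl⟩, hg⟩ := IsCyclic.exists_generator (α := R)
  refine ⟨y, hy, fun a ha => ?_⟩
  obtain ⟨k, hk⟩ := mem_zpowers_iff.1 (hg ⟨_, a, ha, rfl⟩)
  exact ⟨k, congrArg Subtype.val hk⟩

omit [Finite G] in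
theorem pow_four (H : ∀ a ∈ h.Y, (a * (t * a⁻¹ * t⁻¹)) ^ 4 = 1) {c : F} {k : ℕ}
    (hc : c ^ 2 ^ k = 1) : c ^ 4 = 1 := by
  by_cases hi : ∃ i : F, i * i = -1
  · obtain ⟨i, hi⟩ := hi
    have h2 := h.two
    have c0 : c ≠ 0 := fun e => by simp [e] at hc
    obtain ⟨a, ha⟩ := h.surj (mm ((c + 1) / 2) (i * (c - 1) / 2)) (by
      rw [det_mm]; convert c0 using 1; field_simp; linear_combination (c - 1) ^ 2 * hi)
    have hp : ∀ n : ℕ, ρ (a ^ n) = mm ((c ^ n + 1) / 2) (i * (c ^ n - 1) / 2) := fun n => by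
      induction n with
      | zero => rw [pow_zero, map_one, ← mm_one, mm_inj]; constructor <;> field_simp <;> ring
      | succ n ih =>
        rw [pow_succ, map_mul, ih, ha, mm_mul, mm_inj]
        constructor <;> field_simp
        · linear_combination (-(c ^ n - 1) * (c - 1)) * hi
        · ring
    have hY : a ∈ h.Y := ⟨⟨_, _, ha⟩, k, h.inj (by
      rw [hp, hc, map_one, ← mm_one, mm_inj]; constructor <;> field_simp <;> ring)⟩
    have := h.fix (hp 4) (h.psi_pow hY 4 ▸ H a hY)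
    field_simp at this
    linear_combination -i * this + (c ^ 4 - 1) * hi
  · induction k generalizing c with
    | zero => rw [pow_zero, pow_one] at hc; rw [hc, one_pow]
    | succ k ih =>
      have := ih (c := c ^ 2) (by rw [← pow_mul, ← pow_succ', hc])
      rcases mul_self_eq_one_iff.1 (show c ^ 4 * c ^ 4 = 1 by linear_combination this) with e | e
      · exact e
      · exact absurd ⟨c ^ 2, by linear_combination e⟩ hi

theorem exists_blk (dt : G →* Fˣ) (sc : Fˣ →* G) (hdt : ∀ g, (dt g : F) = (ρ g).det)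
    (hsc : ∀ l, ρ (sc l) = mm (l : F) 0) (h : Gl ρ j t) (t1 : dt t = 1) :
    ∃ (D : Sylow 2 G) (B : Blk D.1 (C2 F)), (∀ d : D.1, ((B.δ d : C2 F) : Fˣ) = dt d) ∧
      ∀ l : C2 F, ((B.s l : D.1) : G) = sc l := by
  obtain ⟨D, YD, tD, cov⟩ := h.exists_sylow
  obtain ⟨y, hy, hgen⟩ := h.exists_gen
  have hpow : ∀ n : ℕ, (y * (t * y⁻¹ * t⁻¹)) ^ n = 1 → ∀ a ∈ h.Y,
      (a * (t * a⁻¹ * t⁻¹)) ^ n = 1 := fun n e a ha => by
    obtain ⟨k, hk⟩ := mem_zpowers_iff.1 (hgen a ha)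
    rw [← hk, ← zpow_natCast, ← zpow_mul, mul_comm, zpow_mul, zpow_natCast, e, one_zpow]
  have sinj : Function.Injective sc := fun l l' e =>
    Units.ext (mm_inj.1 ((hsc l).symm.trans ((congrArg ρ e).trans (hsc l')))).1
  refine ⟨D,
    { δ := (dt.comp D.1.subtype).codRestrict _ fun d => (D.isPGroup' d).imp fun k e => by
        rw [← map_pow, e, map_one]
      s := (sc.comp (C2 F).subtype).codRestrict _ fun l => YD ⟨⟨_, _, hsc _⟩,
        l.2.imp fun k e => by rw [MonoidHom.comp_apply, ← map_pow, coe_subtype, e, map_one]⟩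
      Y := h.Y.subgroupOf D.1
      t := ⟨t, tD⟩
      y := ⟨y, YD hy⟩
      s_inj := fun l l' e => Subtype.ext (sinj (congrArg Subtype.val e))
      s_comm := fun c d => Subtype.ext (h.inj ?_)
      Y_comm := fun a ha b hb => Subtype.ext (h.comm ha hb).eq
      t_not := fun e => h.j_ne (by rw [← h.tj, (h.comm (a := t) e h.j_mem).eq, mul_inv_cancel_right])
      cover := fun d => cov d d.2
      δ_t := Subtype.ext t1
      inv_uniq := fun c c' e e' n n' => ?_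
      norm := fun a ha => Subtype.ext (h.inj ?_)
      fix := fun a ha e => ?_
      y_mem := hy
      sq_ne := fun e => ?_
      cyc := fun a ha => ?_
      four := fun e c => ?_ }, fun d => rfl, fun l => rfl⟩
  · change ρ (sc c * d) = ρ (d * sc c)
    rw [map_mul, map_mul, hsc, mm_comm_of]
  · have key : ∀ c : C2 F, c * c = 1 → c ≠ 1 → ((c : Fˣ) : F) = -1 := fun c e n =>
      (mul_self_eq_one_iff.1 (congrArg (fun x : C2 F => ((x : Fˣ) : F)) e)).resolve_left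
        fun e' => n (Subtype.ext (Units.ext e'))
    exact Subtype.ext (Units.ext ((key c e n).trans (key c' e' n').symm))
  · obtain ⟨⟨α, β, e⟩, -⟩ : (a : G) ∈ h.Y := ha
    change ρ (a * (t * a * t⁻¹)) = ρ (sc (dt a))
    rw [map_mul, h.conj e, hsc, hdt, e, mm_mul, det_mm, mm_inj]; constructor <;> ring
  · obtain ⟨⟨α, β, e1⟩, k, hk⟩ : (a : G) ∈ h.Y := ha
    have e2 : t * a * t⁻¹ = a := congrArg Subtype.val e
    obtain rfl := h.fix e1 (by rw [← conj_inv, e2, mul_inv_cancel])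
    have h0 : α ≠ 0 := fun e0 => (dt a).ne_zero (by rw [hdt, e1, det_mm, e0]; ring)
    have e3 : (a : G) = sc (Units.mk0 α h0) := h.inj (e1.trans (hsc (Units.mk0 α h0)).symm)
    exact ⟨⟨Units.mk0 α h0, k, sinj (by rw [map_pow, ← e3, hk, map_one])⟩, Subtype.ext e3⟩
  · obtain ⟨a, ha, e'⟩ := h.exists_y0
    exact e' (hpow 2 (congrArg Subtype.val e) a ha)
  · obtain ⟨k, hk⟩ := mem_zpowers_iff.1 (hgen a ha)
    exact ⟨k, Subtype.ext hk⟩
  · obtain ⟨k, hk⟩ := c.2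
    exact Subtype.ext (Units.ext (h.pow_four (hpow 4 (congrArg Subtype.val e))
      (congrArg Units.val hk)))

end Gl

theorem exists_blk {F : Type u} [Field F] [Fintype F] (hF : Odd (Fintype.card F)) :
    ∃ (D : Sylow 2 ((Fin 2 → F) ≃ₗ[F] (Fin 2 → F))) (B : Blk D.1 (C2 F)),
      (∀ d : D.1, ((B.δ d : C2 F) : Fˣ) = LinearEquiv.det (d : (Fin 2 → F) ≃ₗ[F] (Fin 2 → F))) ∧
      ∀ (l : C2 F) (v : Fin 2 → F),
        ((B.s l : D.1) : (Fin 2 → F) ≃ₗ[F] (Fin 2 → F)) v = ((l : Fˣ) : F) • v := by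
  have : Finite ((Fin 2 → F) ≃ₗ[F] (Fin 2 → F)) := DFunLike.finite _
  let ρ : ((Fin 2 → F) ≃ₗ[F] (Fin 2 → F)) →* Matrix (Fin 2) (Fin 2) F :=
    { toFun g := LinearMap.toMatrix' g.toLinearMap
      map_one' := LinearMap.toMatrix'_id
      map_mul' g k := LinearMap.toMatrix'_comp _ _ }
  have surj : ∀ M : Matrix (Fin 2) (Fin 2) F, M.det ≠ 0 → ∃ g, ρ g = M := fun M hM =>
    ⟨Matrix.toLinearEquiv' M (Matrix.invertibleOfIsUnitDet M (Ne.isUnit hM)),
      LinearMap.toMatrix'_toLin' M⟩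
  have hdt : ∀ g, ((LinearEquiv.det g : Fˣ) : F) = (ρ g).det := fun g => by
    rw [LinearEquiv.coe_det]; exact (LinearMap.det_toMatrix' _).symm
  have two : (2 : F) ≠ 0 := Ring.two_ne_zero fun e => by
    have := FiniteField.even_card_iff_char_two.1 e
    have := Nat.odd_iff.1 hF
    omega
  obtain ⟨p, hp⟩ := CharP.exists F
  have : NeZero p := ⟨CharP.char_ne_zero_of_finite F p⟩
  obtain ⟨u, v, huv⟩ := CharP.sq_add_sq F p (-1)
  have hd : (!![(u : F), v; v, -u]).det = 1 := by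
    rw [Matrix.det_fin_two_of]; push_cast at huv; linear_combination -huv
  obtain ⟨j, hj⟩ := surj (mm 0 1) (by rw [det_mm]; simp)
  obtain ⟨t, ht⟩ := surj _ (hd ▸ one_ne_zero)
  obtain ⟨D, B, h1, h2⟩ := Gl.exists_blk LinearEquiv.det (DistribMulAction.toModuleAut F _) hdt
    (fun l => by
      ext a b
      change (l : F) * (Pi.single b (1 : F) : Fin 2 → F) a = _
      fin_cases a <;> fin_cases b <;> simp [mm])
    (j := j) (t := t)
    ⟨two, fun g k e => LinearEquiv.toLinearMap_injective (LinearMap.toMatrix'.injective e), surj, hj,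
      fun α β => by
        rw [ht]; ext a b
        fin_cases a <;> fin_cases b <;> simp [mm, Matrix.mul_apply, Fin.sum_univ_two] <;> ring,
      by
        rw [ht]; push_cast at huv; ext a b
        fin_cases a <;> fin_cases b <;> simp [mm, Matrix.mul_apply, Fin.sum_univ_two] <;>
          first | linear_combination huv | ring⟩
    (Units.ext (by rw [hdt, ht, hd, Units.val_one]))
  exact ⟨D, B, h1, fun l v => by rw [h2]; rfl⟩

end Cfsg.Lib.Kasp
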