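import Mathlib

/-!
# Data describing a Sylow 2-subgroup of `PSL_n(q)`, `q` odd, `n ≥ 3`
-/

set_option autoImplicit false

namespace Cfsg.Lib.Kasp

open Subgroup Equiv

/-- A Sylow 2-subgroup `D` of `GL₂(q)`: determinant `δ`, scalars `s`, torus `Y`. -/
structure Blk (D C : Type*) [Group D] [CommGroup C] where
  /-- determinant -/
  δ : D →* C
  /-- scalar matrices -/
  s : C →* D
  /-- the torus -/
  Y : Subgroup D
  /-- an element outside the torus -/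
  t : D
  /-- an element of the torus whose commutator with `t` generates `[Y, t]` -/
  y : D
  s_inj : Function.Injective s
  s_comm : ∀ c d, s c * d = d * s c
  Y_comm : ∀ a ∈ Y, ∀ b ∈ Y, a * b = b * a
  t_not : t ∉ Y
  cover : ∀ d, d ∈ Y ∨ d * t⁻¹ ∈ Y
  δ_t : δ t = 1
  inv_uniq : ∀ c c' : C, c * c = 1 → c' * c' = 1 → c ≠ 1 → c' ≠ 1 → c = c'
  norm : ∀ a ∈ Y, a * (t * a * t⁻¹) = s (δ a)
  fix : ∀ a ∈ Y, t * a * t⁻¹ = a → ∃ c, a = s c
  y_mem : y ∈ Y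
  sq_ne : (y * (t * y⁻¹ * t⁻¹)) ^ 2 ≠ 1
  cyc : ∀ a ∈ Y, a * (t * a⁻¹ * t⁻¹) ∈ zpowers (y * (t * y⁻¹ * t⁻¹))
  four : (y * (t * y⁻¹ * t⁻¹)) ^ 4 = 1 → ∀ c : C, c ^ 4 = 1

/-- Block monomial coordinates on a Sylow 2-subgroup `X` of `SL_n(q)` with image `T` in
`PSL_n(q)`; `R` says that `n` is odd. -/
structure Mod {D C : Type*} [Group D] [CommGroup C] (B : Blk D C) (ι : Type*) [Fintype ι]
    (R : Prop) (X T : Type*) [Group X] [Group T] where
  /-- the Sylow subgroup of the symmetric group on the blocks -/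
  P : Sylow 2 (Perm ι)
  /-- action on the blocks -/
  π : X →* Perm ι
  /-- block coordinates -/
  c : X → ι → D
  /-- the last coordinate -/
  e : X →* C
  /-- projection -/
  φ : X →* T
  c_mul : ∀ x x' j, c (x * x') j = c x j * c x' ((π x)⁻¹ j)
  π_mem : ∀ x, π x ∈ (P : Subgroup (Perm ι))
  det : ∀ x, (∏ j, B.δ (c x j)) * e x = 1
  e_eq : ¬ R → ∀ x, e x = 1
  ex : ∀ p ∈ (P : Subgroup (Perm ι)), ∀ d : ι → D, (¬ R → ∏ j, B.δ (d j) = 1) →
    ∃ x, π x = p ∧ c x = d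
  φ_surj : Function.Surjective φ
  ker : ∀ x, φ x = 1 ↔ π x = 1 ∧ ∃ l, (∀ j, c x j = B.s l) ∧ (R → e x = l)

/-- The 2-part of the multiplicative group of a field. -/
abbrev C2 (F : Type*) [Field F] : Subgroup Fˣ := CommGroup.primaryComponent Fˣ 2

end Cfsg.Lib.Kasp
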