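import Cfsg.Agent.Kasp.Defs
import Cfsg.Agent.Known.Syl2Rank

/-!
# Block monomial coordinates on a Sylow 2-subgroup of `PSL_n(q)`, `q` odd
-/

set_option autoImplicit false

namespace Cfsg.Lib.Kasp

open Subgroup Equiv Module Cfsg.Lib.Char

universe u

section Wr

variable {ι D E G : Type*} [Group D] [Group E] [Group G] (W : WrData ι D E G)

theorem wr_uniq {b b' : (ι → D) × E} {π π' : Perm ι} (h : W.β b * W.σ π = W.β b' * W.σ π') :
    b = b' ∧ π = π' := by
  have h1 : W.σ (π * π'⁻¹) = W.β (b⁻¹ * b') := by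
    rw [map_mul, map_mul, map_inv, map_inv, mul_inv_eq_iff_eq_mul, mul_assoc, ← h]
    group
  have h2 : π = π' := mul_inv_eq_one.1 (W.disj _ ⟨_, h1.symm⟩)
  subst h2
  exact ⟨W.inj (mul_right_cancel h), rfl⟩

theorem wr_mul (b b' : (ι → D) × E) (π π' : Perm ι) :
    W.β b * W.σ π * (W.β b' * W.σ π') =
      W.β (b * (fun i => b'.1 (π.symm i), b'.2)) * W.σ (π * π') := by
  rw [map_mul, map_mul, ← W.conj π b'.1 b'.2]
  group

theorem mod_of_wr {C T : Type*} [CommGroup C] [Group T] [Fintype ι] (B : Blk D C) (R : Prop)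
    (P : Sylow 2 (Perm ι)) (N : Subgroup G) (ε : E →* C)
    (hN : ∀ b π, W.β b * W.σ π ∈ N ↔ (∏ j, B.δ (b.1 j)) * ε b.2 = 1)
    (h0 : ¬ R → ∀ x, ε x = 1) (h1 : R → Function.Surjective ε)
    (φ : (W.syl P ⊓ N : Subgroup G) →* T) (hφ : Function.Surjective φ)
    (hk : ∀ b π (h : W.β b * W.σ π ∈ W.syl P ⊓ N), φ ⟨_, h⟩ = 1 ↔
      π = 1 ∧ ∃ l, (∀ j, b.1 j = B.s l) ∧ (R → ε b.2 = l)) :
    Nonempty (Mod B ι R (W.syl P ⊓ N : Subgroup G) T) := by
  have hc : ∀ x : (W.syl P ⊓ N : Subgroup G), ∃ b, ∃ π ∈ (P : Subgroup (Perm ι)),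
      x.1 = W.β b * W.σ π := fun x => Known.S2R.mem_syl W _ x.2.1
  choose cb cπ hP hx using hc
  have hm : ∀ x y, cb (x * y) = cb x * (fun i => (cb y).1 ((cπ x).symm i), (cb y).2) ∧
      cπ (x * y) = cπ x * cπ y := fun x y => by
    refine wr_uniq W ?_
    rw [← wr_mul, ← hx, ← hx, ← hx]
    rfl
  refine ⟨{
    P := P
    π := MonoidHom.mk' cπ fun x y => (hm x y).2
    c := fun x => (cb x).1
    e := MonoidHom.mk' (fun x => ε (cb x).2) fun x y => by
      rw [(hm x y).1, Prod.snd_mul, map_mul]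
    φ := φ
    c_mul := fun x y j => by rw [(hm x y).1]; rfl
    π_mem := hP
    det := fun x => (hN _ _).1 (hx x ▸ x.2.2)
    e_eq := fun h x => h0 h _
    ex := fun p hp d hd => ?_
    φ_surj := hφ
    ker := fun x => ?_ }⟩
  · obtain ⟨y, hy⟩ : ∃ y, (∏ j, B.δ (d j)) * ε y = 1 := by
      by_cases hR : R
      · obtain ⟨y, hy⟩ := h1 hR (∏ j, B.δ (d j))⁻¹
        exact ⟨y, by rw [hy, mul_inv_cancel]⟩
      · exact ⟨1, by rw [hd hR, map_one, mul_one]⟩
    have hmem : W.β (d, y) * W.σ p ∈ W.syl P ⊓ N :=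
      ⟨Subgroup.mul_mem _ (Subgroup.mem_sup_left ⟨_, rfl⟩) (W.σ_mem_syl hp), (hN _ _).2 hy⟩
    have h2 := wr_uniq W (hx ⟨_, hmem⟩)
    exact ⟨⟨_, hmem⟩, h2.2.symm, (congrArg Prod.fst h2.1).symm⟩
  · have h2 : x = ⟨_, hx x ▸ x.2⟩ := Subtype.ext (hx x)
    have h3 := hk (cb x) (cπ x) (hx x ▸ x.2)
    rw [← h2] at h3
    exact h3

end Wr

/-- The image of a Sylow subgroup of a normal subgroup. -/
theorem exists_hom_sylow {G H : Type*} [Group G] [Group H] [Finite G] {p : ℕ} [Fact p.Prime]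
    (S : Sylow p G) (N : Subgroup G) [hN : N.Normal] (ψ : N →* H) (hψ : Function.Surjective ψ)
    (T : Sylow p H) : ∃ φ : (S.1 ⊓ N : Subgroup G) →* T.1, Function.Surjective φ ∧
      ∀ x, φ x = 1 ↔ ψ ⟨x.1, x.2.2⟩ = 1 := by
  have : Finite H := Finite.of_surjective ψ hψ
  obtain ⟨Q, hQ⟩ := Solv.exists_sylow_eq_subgroupOf_of_isSubnormal hN.isSubnormal S
  let Q' := Q.mapSurjective hψ
  let φ₀ : (S.1 ⊓ N : Subgroup G) →* Q'.1 :=
    (ψ.comp (Subgroup.inclusion inf_le_right)).codRestrict _ fun x =>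
      ⟨⟨x.1, x.2.2⟩, by rw [SetLike.mem_coe, hQ]; exact x.2.1, rfl⟩
  refine ⟨(Sylow.equiv Q' T).toMonoidHom.comp φ₀, (Sylow.equiv Q' T).surjective.comp ?_,
    fun x => ?_⟩
  · rintro ⟨_, y, hy, rfl⟩
    rw [SetLike.mem_coe, hQ] at hy
    exact ⟨⟨y.1, hy, y.2⟩, rfl⟩
  · rw [MonoidHom.comp_apply, MulEquiv.coe_toMonoidHom, map_eq_one_iff _ (Sylow.equiv Q' T).injective,
      Subtype.ext_iff]
    rfl

section Lin

variable {F : Type*} [Field F]

theorem slEquivKer_symm_mem_center {n V : Type*} [Fintype n] [DecidableEq n] [AddCommGroup V]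
    [Module F V] [FiniteDimensional F V] (b : Basis n F V)
    (g : (LinearEquiv.det : (V ≃ₗ[F] V) →* Fˣ).ker) :
    (slEquivKer b).symm g ∈ center (Matrix.SpecialLinearGroup n F) ↔
      ∃ a : F, ∀ v, g.1 v = a • v := by
  refine (MulEquivClass.apply_mem_center_iff (slEquivKer b).symm).trans ?_
  constructor
  · intro h'
    have h : g ∈ center _ := h'
    have h1 : (⟨g.1, g.2⟩ : SpecialLinearGroup F V) ∈ center (SpecialLinearGroup F V) :=
      mem_center_iff.2 fun x => Subtype.ext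
        (congrArg Subtype.val (mem_center_iff.1 h ⟨x.1, x.2⟩))
    obtain ⟨a, -, ha⟩ := SpecialLinearGroup.mem_center_iff.1 h1
    exact ⟨a, fun v => LinearMap.congr_fun ha v⟩
  · rintro ⟨a, ha⟩
    change g ∈ center _
    refine mem_center_iff.2 fun x => Subtype.ext (LinearEquiv.ext fun v => ?_)
    change x.1 (g.1 v) = g.1 (x.1 v)
    rw [ha, ha, map_smul]

theorem det_of_smul {V : Type*} [AddCommGroup V] [Module F V] [FiniteDimensional F V]
    (g : V ≃ₗ[F] V) {a : F} (h : ∀ v, g v = a • v) :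
    ((LinearEquiv.det g : Fˣ) : F) = a ^ finrank F V := by
  have h1 : (g : V →ₗ[F] V) = a • LinearMap.id := LinearMap.ext h
  rw [LinearEquiv.coe_det, h1, LinearMap.det_smul, LinearMap.det_id, mul_one]

theorem smul_of_fin_one (g : (Fin 1 → F) ≃ₗ[F] (Fin 1 → F)) (v : Fin 1 → F) :
    g v = ((LinearEquiv.det g : Fˣ) : F) • v := by
  have h1 : ∀ w : Fin 1 → F, g w = g (fun _ => 1) 0 • w := fun w => by
    have h2 : w = w 0 • fun _ => (1 : F) := by
      funext i
      rw [Subsingleton.elim i 0]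
      simp
    funext i
    rw [Subsingleton.elim i 0]
    conv_lhs => rw [h2, map_smul]
    simp [mul_comm]
  rw [det_of_smul g h1, h1]
  simp

theorem pow_apply_of_smul {V : Type*} [AddCommGroup V] [Module F V] (g : V ≃ₗ[F] V) {a : F}
    (h : ∀ v, g v = a • v) (k : ℕ) (v : V) : (g ^ k) v = a ^ k • v := by
  induction k with
  | zero => simp
  | succ k ih => rw [pow_succ', LinearEquiv.mul_apply, ih, h, smul_smul, pow_succ']

end Lin

theorem exists_mod_aux {F : Type u} [Field F] [Fintype F] (hF : Odd (Fintype.card F))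
    {n m r : ℕ} (hm : 1 ≤ m) (hr : r ≤ 1) (hn : n = 2 * m + r) (R : Prop) (hR : R ↔ r = 1)
    (D : Sylow 2 ((Fin 2 → F) ≃ₗ[F] (Fin 2 → F))) (B : Blk D.1 (C2 F))
    (hδ : ∀ d : D.1, ((B.δ d : C2 F) : Fˣ) = LinearEquiv.det (d : (Fin 2 → F) ≃ₗ[F] (Fin 2 → F)))
    (hs : ∀ (l : C2 F) (v : Fin 2 → F),
      ((B.s l : D.1) : (Fin 2 → F) ≃ₗ[F] (Fin 2 → F)) v = ((l : Fˣ) : F) • v)
    (T : Sylow 2 (Matrix.ProjectiveSpecialLinearGroup (Fin n) F)) :
    ∃ (X : Type u) (_ : Group X), Nonempty (Mod B (Fin m) R X T.1) := by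
  subst hn
  have h1 : 1 < Fintype.card F := Fintype.one_lt_card
  have : Finite ((Fin 2 → F) ≃ₗ[F] (Fin 2 → F)) := finite_linearEquiv
  have : Finite ((Fin r → F) ≃ₗ[F] (Fin r → F)) := finite_linearEquiv
  have : Finite (((Fin m → Fin 2 → F) × (Fin r → F)) ≃ₗ[F] ((Fin m → Fin 2 → F) × (Fin r → F))) :=
    finite_linearEquiv
  obtain ⟨P⟩ : Nonempty (Sylow 2 (Perm (Fin m))) := inferInstance
  obtain ⟨E⟩ : Nonempty (Sylow 2 ((Fin r → F) ≃ₗ[F] (Fin r → F))) := inferInstance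
  let W := (linWr F (Fin m) (Fin 2 → F) (Fin r → F)).comp (D : Subgroup _).subtype
    (E : Subgroup _).subtype Subtype.val_injective Subtype.val_injective
  have hdim : finrank F ((Fin m → Fin 2 → F) × (Fin r → F)) = 2 * m + r := by
    simp [finrank_pi_fintype, mul_comm]
  have hE : (Nat.card ((Fin r → F) ≃ₗ[F] (Fin r → F))).factorization 2 =
      r * padicValNat 2 (Fintype.card F - 1) := by
    rw [card_linearEquiv (k := r) (by simp), Nat.factorization_def _ Nat.prime_two]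
    interval_cases r <;> simp
  obtain ⟨S, hS⟩ := W.exists_sylow (p := 2) D.card_eq_multiplicity E.card_eq_multiplicity P (by
    rw [hE, card_linearEquiv hdim, card_linearEquiv (k := 2 * 1) (by simp),
      Nat.factorization_def _ Nat.prime_two, Nat.factorization_def _ Nat.prime_two,
      Nat.factorization_def _ Nat.prime_two, V2.v_prod_gl h1 hF, V2.v_prod_gl h1 hF,
      V2.v_gl_even h1 hF]
    interval_cases r
    · rw [add_zero, V2.v_gl_even h1 hF]; simp
    · rw [V2.v_gl_odd h1 hF]; simp)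
  have hβ : ∀ b, LinearEquiv.det (W.β b) =
      (∏ i, LinearEquiv.det (b.1 i).1) * LinearEquiv.det b.2.1 := fun b => det_linWr_β _
  have hσ : ∀ π, LinearEquiv.det (W.σ π) = 1 := fun π => det_linWr_σ π
  have happ : ∀ b π v, (W.β b * W.σ π) v =
      (fun i => (b.1 i).1 (v.1 (π.symm i)), b.2.1 v.2) := fun _ _ _ => rfl
  let ε : E.1 →* C2 F := (LinearEquiv.det.comp E.1.subtype).codRestrict _ fun x => by
    obtain ⟨k, hk⟩ := E.isPGroup' x
    exact ⟨k, by rw [← map_pow, hk, map_one]⟩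
  have hε : ∀ x, ((ε x : C2 F) : Fˣ) = LinearEquiv.det x.1 := fun _ => rfl
  let bs := Module.finBasisOfFinrankEq F _ hdim
  let ψ : (LinearEquiv.det : (((Fin m → Fin 2 → F) × (Fin r → F)) ≃ₗ[F]
      ((Fin m → Fin 2 → F) × (Fin r → F))) →* Fˣ).ker →*
        Matrix.ProjectiveSpecialLinearGroup (Fin (2 * m + r)) F :=
    (QuotientGroup.mk' _).comp (slEquivKer bs).symm.toMonoidHom
  have hψ : Function.Surjective ψ :=
    (QuotientGroup.mk'_surjective _).comp (slEquivKer bs).symm.surjective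
  have hψ1 : ∀ g, ψ g = 1 ↔ ∃ a : F, ∀ v, g.1 v = a • v := fun g =>
    (QuotientGroup.eq_one_iff _).trans (slEquivKer_symm_mem_center bs g)
  have hex := exists_hom_sylow S _ ψ hψ T
  rw [hS] at hex
  obtain ⟨φ, hφ, hker⟩ := hex
  refine ⟨_, inferInstance, mod_of_wr W B R P _ ε (fun b π => ?_) (fun h x => ?_) (fun h l => ?_)
    φ hφ fun b π h => ?_⟩
  · rw [MonoidHom.mem_ker, map_mul, hβ, hσ, mul_one, Subtype.ext_iff, Subgroup.coe_mul,
      SubmonoidClass.coe_finsetProd, hε, Finset.prod_congr rfl fun i _ => hδ (b.1 i)]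
    rfl
  · obtain rfl : r = 0 := by
      have := mt hR.2 h
      omega
    have h3 : x = 1 := Subtype.ext (LinearEquiv.ext fun _ => Subsingleton.elim _ _)
    rw [h3, map_one]
  · obtain rfl := hR.1 h
    obtain ⟨k, hk⟩ := l.2
    let z : (Fin 1 → F) ≃ₗ[F] (Fin 1 → F) := LinearEquiv.smulOfUnit l.1
    have hz : ∀ v, z v = ((l : Fˣ) : F) • v := fun _ => rfl
    have hz1 : z ^ 2 ^ k = 1 := LinearEquiv.ext fun v => by
      rw [pow_apply_of_smul z hz, ← Units.val_pow_eq_pow_val, hk]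
      simp
    have hz2 : z ∈ center _ := mem_center_iff.2 fun x => LinearEquiv.ext fun v => by
      change x (z v) = z (x v)
      rw [hz, hz, map_smul]
    refine ⟨⟨z, Known.GL2.mem_sylow_of_mem_normalizer E hz1 (center_le_normalizer _ hz2)⟩, ?_⟩
    refine Subtype.ext (Units.ext ?_)
    rw [hε, det_of_smul z hz]
    simp
  · rw [hker, hψ1]
    constructor
    · rintro ⟨a, ha⟩
      have ha1 : ∀ (v : Fin m → Fin 2 → F) i, (b.1 i).1 (v (π.symm i)) = a • v i := fun v i =>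
        congrFun (congrArg Prod.fst ((happ b π (v, 0)).symm.trans (ha (v, 0)))) i
      have ha2 : ∀ v, b.2.1 v = a • v := fun v =>
        congrArg Prod.snd ((happ b π (0, v)).symm.trans (ha (0, v)))
      obtain ⟨w, hw⟩ := exists_ne (0 : Fin 2 → F)
      have hπ : π = 1 := by
        ext1 i
        by_contra hi
        have hi' : π i ≠ i := hi
        have h4 := ha1 (Pi.single i w) (π i)
        rw [π.symm_apply_apply, Pi.single_eq_same, Pi.single_eq_of_ne hi', smul_zero,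
          map_eq_zero_iff _ (b.1 (π i)).1.injective] at h4
        exact hw h4
      subst hπ
      have ha3 : ∀ i v, (b.1 i).1 v = a • v := fun i v => ha1 (fun _ => v) i
      obtain ⟨k, hk⟩ := D.isPGroup' (b.1 ⟨0, hm⟩)
      have hak : a ^ 2 ^ k = 1 := by
        have h5 := pow_apply_of_smul _ (ha3 ⟨0, hm⟩) (2 ^ k) w
        rw [← Subgroup.coe_pow, hk] at h5
        have h6 : (a ^ 2 ^ k - 1) • w = 0 := by
          rw [sub_smul, ← h5]; simp
        exact sub_eq_zero.1 ((smul_eq_zero.1 h6).resolve_right hw)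
      have ha0 : a ≠ 0 := by
        rintro rfl
        rw [zero_pow (by positivity)] at hak
        exact zero_ne_one hak
      let l : C2 F := ⟨Units.mk0 a ha0, k, Units.ext (by simpa using hak)⟩
      refine ⟨rfl, l, fun j => Subtype.ext (LinearEquiv.ext fun v => ?_), fun h => ?_⟩
      · rw [ha3, hs]; rfl
      · obtain rfl := hR.1 h
        refine Subtype.ext (Units.ext ?_)
        rw [hε, det_of_smul _ ha2]
        simp [l]
    · rintro ⟨rfl, l, hl, hl'⟩
      refine ⟨((l : Fˣ) : F), fun v => (happ b 1 v).trans (Prod.ext (funext fun i => ?_) ?_)⟩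
      · change (b.1 i).1 (v.1 i) = ((l : Fˣ) : F) • v.1 i
        rw [hl, hs]
      · change b.2.1 v.2 = ((l : Fˣ) : F) • v.2
        interval_cases r
        · exact Subsingleton.elim _ _
        · rw [smul_of_fin_one, ← hε, hl' (hR.2 rfl)]

theorem exists_mod {F : Type u} [Field F] [Fintype F] (hF : Odd (Fintype.card F)) {n : ℕ}
    (hn : 3 ≤ n) (D : Sylow 2 ((Fin 2 → F) ≃ₗ[F] (Fin 2 → F))) (B : Blk D.1 (C2 F))
    (hδ : ∀ d : D.1, ((B.δ d : C2 F) : Fˣ) = LinearEquiv.det (d : (Fin 2 → F) ≃ₗ[F] (Fin 2 → F)))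
    (hs : ∀ (l : C2 F) (v : Fin 2 → F),
      ((B.s l : D.1) : (Fin 2 → F) ≃ₗ[F] (Fin 2 → F)) v = ((l : Fˣ) : F) • v)
    (T : Sylow 2 (Matrix.ProjectiveSpecialLinearGroup (Fin n) F)) :
    ∃ (X : Type u) (_ : Group X), Nonempty (Mod B (Fin (n / 2)) (Odd n) X T.1) :=
  exists_mod_aux hF (r := n % 2) (by omega) (by omega) (by omega) _ Nat.odd_iff D B hδ hs T

end Cfsg.Lib.Kasp
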